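import Cfsg.Agent.OddHalf.E2.ExtraLin
import Cfsg.Agent.LargeExtra.Dickson

/-!
# ODD half, D8, type (E2): step (4) of helper83's text, case `C_{F₀}(t) = E_i` (helper355)

`Q` extraspecial, normal in `C_G(z)` (`Large Q z`), `t ∉ Q` an involution of `C_G(z)` with `C_Q(t) = E` abelian of
order 16, `P ≤ C_G(⟨t, z⟩)` acting irreducibly on `E / ⟨z⟩`: impossible.
-/

set_option autoImplicit false

namespace Cfsg.Agent.OddHalf.E2.ExtraEi

open Subgroup Module
open Cfsg.Agent.Co2Type.Quad Cfsg.Agent.LargeExtra.TwoCentral Cfsg.Agent.LargeExtra.Dickson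

variable {G : Type*} [Group G] {Q : Subgroup G} {z : G}

/-- the image of `E ≤ Q` in `Q / ⟨z⟩` -/
noncomputable def img (h : Large Q z) (E : Subgroup G) : Submodule (ZMod 2) h.V where
  carrier := {v | ∃ x : Q, (x : G) ∈ E ∧ h.pr x = v}
  zero_mem' := ⟨1, E.one_mem, h.pr_one⟩
  add_mem' := by
    rintro _ _ ⟨x, hx, rfl⟩ ⟨y, hy, rfl⟩
    exact ⟨x * y, E.mul_mem hx hy, h.pr_mul x y⟩
  smul_mem' := by
    rintro c _ ⟨x, hx, rfl⟩
    rcases zmod_two c with rfl | rfl
    · rw [zero_smul]; exact ⟨1, E.one_mem, h.pr_one⟩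
    · rw [one_smul]; exact ⟨x, hx, rfl⟩

theorem mem_img (h : Large Q z) (E : Subgroup G) (v : h.V) : v ∈ img h E ↔ ∃ x : Q, (x : G) ∈ E ∧ h.pr x = v :=
  Iff.rfl

theorem pr_mem_img (h : Large Q z) {E : Subgroup G} (hz : z ∈ E) (x : Q) : h.pr x ∈ img h E ↔ (x : G) ∈ E := by
  rw [mem_img]
  constructor
  · rintro ⟨y, hy, hyx⟩
    rcases (h.pr_eq_pr).1 hyx with h1 | h1
    · rw [← h1]; exact hy
    · have : (x : G) = y * z := by rw [h1, mul_assoc, h.z_sq, mul_one]
      rw [this]; exact E.mul_mem hy hz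
  · intro hx; exact ⟨x, hx, rfl⟩

theorem card_img [Finite Q] (h : Large Q z) {E : Subgroup G} (hz : z ∈ E) (hE : E ≤ Q) :
    Nat.card E = 2 * Nat.card (img h E) := by
  classical
  let f : E →* Multiplicative (img h E) :=
    { toFun := fun x => Multiplicative.ofAdd ⟨h.pr ⟨x, hE x.2⟩, ⟨⟨x, hE x.2⟩, x.2, rfl⟩⟩
      map_one' := rfl
      map_mul' := fun x y => rfl }
  have hf : Function.Surjective f := by
    intro v
    obtain ⟨x, hx, hxv⟩ := (Multiplicative.toAdd v).2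
    exact ⟨⟨x, hx⟩, Subtype.ext hxv⟩
  have hker : Nat.card f.ker = 2 := by
    have : f.ker = Subgroup.zpowers (⟨z, hz⟩ : E) := by
      ext x
      rw [MonoidHom.mem_ker, Subgroup.mem_zpowers_iff]
      have h0 : f x = 1 ↔ h.pr ⟨x, hE x.2⟩ = 0 := by
        constructor
        · intro hx; exact congrArg (fun w => ((Multiplicative.toAdd w : img h E) : h.V)) hx
        · intro hx; exact Subtype.ext hx
      rw [h0, h.pr_eq_zero]
      constructor
      · rintro (h1 | h1)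
        · exact ⟨0, by rw [zpow_zero]; exact Subtype.ext h1.symm⟩
        · exact ⟨1, by rw [zpow_one]; exact Subtype.ext h1.symm⟩
      · rintro ⟨k, hk⟩
        rcases Int.even_or_odd' k with ⟨m, rfl | rfl⟩
        · left
          rw [← hk]
          show z ^ (2 * m) = 1
          rw [zpow_mul, zpow_two, h.z_sq, one_zpow]
        · right
          rw [← hk]
          show z ^ (2 * m + 1) = z
          rw [zpow_add, zpow_mul, zpow_two, h.z_sq, one_zpow, one_mul, zpow_one]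
    rw [this, Nat.card_zpowers]
    refine orderOf_eq_prime ?_ ?_
    · apply Subtype.ext
      show z ^ 2 = 1
      rw [pow_two]; exact h.z_sq
    · intro h1; exact h.z_ne (congrArg Subtype.val h1)
  have h1 := Subgroup.card_eq_card_quotient_mul_card_subgroup f.ker
  have h2 : Nat.card (E ⧸ f.ker) = Nat.card (img h E) :=
    Nat.card_congr (QuotientGroup.quotientKerEquivOfSurjective f hf).toEquiv
  rw [h1, h2, hker, mul_comm]

/-- **`C_Q(t) = E` of order 16 is impossible**: see the header. -/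
theorem false_of_card [Finite Q] (h : Large Q z) (t : centralizer ({z} : Set G)) (tt : (t : G) * t = 1)
    (E : Subgroup G) (hE : ∀ x, x ∈ E ↔ x ∈ Q ∧ x * (t : G) = t * x)
    (hab : ∀ a ∈ E, ∀ b ∈ E, a * b = b * a) (hc : Nat.card E = 16)
    (P : Subgroup G) (hPz : ∀ p ∈ P, p * z = z * p) (hPt : ∀ p ∈ P, p * (t : G) = t * p)
    (irr : ∀ C : Subgroup G, z ∈ C → C ≤ E → (∀ p ∈ P, ∀ c ∈ C, p * c * p⁻¹ ∈ C) →
      (∀ c ∈ C, c = 1 ∨ c = z) ∨ C = E) : False := by
  classical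
  have hfd := finiteDim h
  have tz : (t : G) * z = z * t := mem_centralizer_singleton_iff.1 t.2
  have hzE : z ∈ E := (hE z).2 ⟨h.z_mem, tz.symm⟩
  have hEQ : E ≤ Q := fun x hx => ((hE x).1 hx).1
  have hff : ∀ v, h.act t (h.act t v) = v := by
    intro v
    have h1 : h.act (t * t) v = v := by
      have : t * t = 1 := Subtype.ext tt
      rw [this, map_one]; rfl
    rw [map_mul] at h1
    exact h1
  have h3 : finrank (ZMod 2) (img h E) = 3 := by
    have h1 := card_img h hzE hEQ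
    rw [hc] at h1
    have h2 : Nat.card (img h E) = Nat.card (ZMod 2) ^ finrank (ZMod 2) (img h E) :=
      Module.natCard_eq_pow_finrank
    have h4 : Nat.card (ZMod 2) = 2 := by simp
    rw [h4] at h2
    have h5 : 2 ^ finrank (ZMod 2) (img h E) = 2 ^ 3 := by omega
    exact Nat.pow_right_injective (le_refl 2) h5
  -- fixed vectors
  have hfixE : ∀ e ∈ img h E, h.act t e = e := by
    rintro _ ⟨x, hx, rfl⟩
    rw [h.act_pr, h.pr_eq_pr, h.conjQ_coe]
    left
    rw [← ((hE x).1 hx).2]; group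
  have hfix2 : ∀ x : Q, h.act t (h.pr x) = h.pr x → (x : G) ∉ E → (t : G) * x = x * z * t := by
    intro x hx hxE
    rw [h.act_pr, h.pr_eq_pr, h.conjQ_coe] at hx
    rcases hx with h1 | h1
    · exfalso
      rw [mul_inv_eq_iff_eq_mul] at h1
      exact hxE ((hE x).2 ⟨x.2, h1.symm⟩)
    · rw [mul_inv_eq_iff_eq_mul] at h1
      exact h1
  have hCE : ∀ c d, h.act t c = c → h.act t d = d → c ∉ img h E → d ∉ img h E → c + d ∈ img h E := by
    intro c d hc hd hcE hdE
    obtain ⟨x, rfl⟩ := h.pr_surjective c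
    obtain ⟨y, rfl⟩ := h.pr_surjective d
    rw [pr_mem_img h hzE] at hcE hdE
    have h1 := hfix2 x hc hcE
    have h2 := hfix2 y hd hdE
    rw [← h.pr_mul, pr_mem_img h hzE, hE]
    refine ⟨(x * y).2, ?_⟩
    have hyz : (y : G) * z = z * y := h.comm_z y y.2
    have e : (t : G) * (x * y) = x * y * t := by
      calc (t : G) * (x * y) = t * x * y := by group
        _ = x * z * (t * y) := by rw [h1]; group
        _ = x * (z * y) * z * t := by rw [h2]; group
        _ = x * y * (z * z) * t := by rw [← hyz]; group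
        _ = x * y * t := by rw [h.z_sq]; group
    exact e.symm
  let pc : ∀ p ∈ P, centralizer ({z} : Set G) := fun p hp => ⟨p, mem_centralizer_singleton_iff.2 (hPz p hp)⟩
  refine ExtraLin.lin h.b h.b_comm h.b_self (fun v hv => h.b_nondeg hv) (h.act t).toLinearMap hff
    (fun v w => h.b_act t v w) (img h E) h3 hfixE ?_ hCE
    {s | ∃ p, ∃ hp : p ∈ P, s = h.act (pc p hp)} ?_ ?_ ?_ ?_ ?_
  · rintro _ ⟨x, hx, rfl⟩ _ ⟨y, hy, rfl⟩
    exact (h.b_pr x y).2 (hab _ hx _ hy)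
  · rintro _ ⟨p, hp, rfl⟩
    refine ⟨p⁻¹, P.inv_mem hp, ?_⟩
    have h1 : pc p⁻¹ (P.inv_mem hp) = (pc p hp)⁻¹ := rfl
    rw [h1, map_inv]; rfl
  · rintro _ ⟨p, hp, rfl⟩ v
    have h1 : pc p hp * t = t * pc p hp := Subtype.ext (hPt p hp)
    have h2 := congrArg (fun f => f v) (congrArg h.act h1)
    simp only [map_mul] at h2
    exact h2
  · rintro _ ⟨p, hp, rfl⟩ v w
    exact h.b_act _ v w
  · rintro _ ⟨p, hp, rfl⟩ _ ⟨x, hx, rfl⟩
    rw [h.act_pr]
    rw [pr_mem_img h hzE, h.conjQ_coe]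
    rw [hE] at hx ⊢
    show p * x * p⁻¹ ∈ Q ∧ p * x * p⁻¹ * t = t * (p * x * p⁻¹)
    refine ⟨h.conj_mem p (hPz p hp) x x.2, ?_⟩
    have h1 : Commute p (t : G) := hPt p hp
    have h2 : Commute (x : G) (t : G) := hx.2
    exact ((h1.mul_left h2).mul_left h1.inv_left).eq
  · intro C hCE hC
    set C' : Subgroup G :=
      { carrier := {x | ∃ hx : x ∈ Q, h.pr ⟨x, hx⟩ ∈ C}
        one_mem' := ⟨Q.one_mem, by
          have : h.pr (⟨1, Q.one_mem⟩ : Q) = 0 := h.pr_one
          rw [this]; exact C.zero_mem⟩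
        mul_mem' := by
          rintro x y ⟨hx, hx2⟩ ⟨hy, hy2⟩
          refine ⟨Q.mul_mem hx hy, ?_⟩
          have : h.pr (⟨x * y, Q.mul_mem hx hy⟩ : Q) = h.pr ⟨x, hx⟩ + h.pr ⟨y, hy⟩ := h.pr_mul ⟨x, hx⟩ ⟨y, hy⟩
          rw [this]; exact C.add_mem hx2 hy2
        inv_mem' := by
          rintro x ⟨hx, hx2⟩
          refine ⟨Q.inv_mem hx, ?_⟩
          have : h.pr (⟨x⁻¹, Q.inv_mem hx⟩ : Q) = - h.pr ⟨x, hx⟩ := h.pr_inv ⟨x, hx⟩
          rw [this]; exact C.neg_mem hx2 } with hC'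
    have hmC' : ∀ x, x ∈ C' ↔ ∃ hx : x ∈ Q, h.pr ⟨x, hx⟩ ∈ C := fun x => Iff.rfl
    have h1 := irr C' ((hmC' z).2 ⟨h.z_mem, by
        rw [(h.pr_eq_zero).2 (Or.inr rfl)]; exact C.zero_mem⟩) (by
        rintro x ⟨hx, hx2⟩
        exact (pr_mem_img h hzE ⟨x, hx⟩).1 (hCE hx2)) (by
        rintro p hp c ⟨hc1, hc2⟩
        refine (hmC' _).2 ⟨h.conj_mem p (hPz p hp) c hc1, ?_⟩
        have h2 := hC _ ⟨p, hp, rfl⟩ _ hc2
        rw [h.act_pr] at h2
        exact h2)
    rcases h1 with h1 | h1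
    · left
      rw [eq_bot_iff]
      intro v hv
      obtain ⟨x, rfl⟩ := h.pr_surjective v
      rw [Submodule.mem_bot, h.pr_eq_zero]
      exact h1 x ((hmC' _).2 ⟨x.2, hv⟩)
    · right
      apply le_antisymm hCE
      rintro _ ⟨x, hx, rfl⟩
      rw [← h1] at hx
      exact hx.2

end Cfsg.Agent.OddHalf.E2.ExtraEi
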