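import Cfsg.Agent.ClassicalGeometry.TwoFamilies

/-!
# ODD half, D8, type (E2): the linear algebra of the case `C_{F₀}(t) = E_i`, `F₀` extraspecial (helper355)

`V` a nondegenerate symplectic space over `𝔽₂`, `τ` an isometry of order two whose fixed space contains a totally
isotropic subspace `E` of dimension 3 with index at most two, `S` a group of isometries commuting with `τ` acting
irreducibly on `E`. This is impossible.
-/

set_option autoImplicit false

namespace Cfsg.Agent.OddHalf.E2.ExtraLin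

open Module

variable {V : Type*} [AddCommGroup V] [Module (ZMod 2) V]

theorem zt (c : ZMod 2) : c = 0 ∨ c = 1 := by revert c; decide

theorem add_self' (v : V) : v + v = 0 := by
  have : (2 : ZMod 2) • v = v + v := two_smul _ v
  rw [← this]
  have h2 : (2 : ZMod 2) = 0 := by decide
  rw [h2, zero_smul]

theorem eq_of_add (v w : V) (h : v + w = 0) : v = w := by
  calc v = v + (w + w) := by rw [add_self', add_zero]
    _ = w := by rw [← add_assoc, h, zero_add]

/-- a subspace `A` of index at most two: dimension count -/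
theorem finrank_le_succ [FiniteDimensional (ZMod 2) V] (A B : Submodule (ZMod 2) V)
    (h : ∀ c ∈ B, ∀ d ∈ B, c ∉ A → d ∉ A → c + d ∈ A) : finrank (ZMod 2) B ≤ finrank (ZMod 2) ↥(B ⊓ A) + 1 := by
  classical
  by_cases hex : ∃ c ∈ B, c ∉ A
  · obtain ⟨c, hc, hcA⟩ := hex
    have hle : B ≤ (B ⊓ A) ⊔ Submodule.span (ZMod 2) {c} := by
      intro x hx
      by_cases hxA : x ∈ A
      · exact Submodule.mem_sup_left ⟨hx, hxA⟩
      · have h1 : c + x ∈ B ⊓ A := ⟨B.add_mem hc hx, h c hc x hx hcA hxA⟩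
        have h2 : x = (c + x) + c := by
          rw [add_comm c x, add_assoc, add_self', add_zero]
        rw [h2]
        exact Submodule.add_mem_sup h1 (Submodule.mem_span_singleton_self c)
    calc finrank (ZMod 2) B ≤ finrank (ZMod 2) ↥((B ⊓ A) ⊔ Submodule.span (ZMod 2) {c}) :=
          Submodule.finrank_mono hle
      _ ≤ finrank (ZMod 2) ↥(B ⊓ A) + finrank (ZMod 2) ↥(Submodule.span (ZMod 2) {c}) :=
          Submodule.finrank_add_le_finrank_add_finrank _ _
      _ ≤ _ := by
          have := finrank_span_singleton (K := ZMod 2) (v := c) (by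
            rintro rfl; exact hcA A.zero_mem)
          omega
  · push Not at hex
    have : B ⊓ A = B := inf_eq_left.2 fun x hx => hex x hx
    rw [this]; omega

/-- dimension of a totally isotropic subspace: `dim E^⊥ = dim V - dim E`, in the form needed here -/
theorem finrank_perp_le [FiniteDimensional (ZMod 2) V] (b : LinearMap.BilinForm (ZMod 2) V)
    (hsymm : ∀ v w, b v w = b w v) (hnd : ∀ v, (∀ w, b v w = 0) → v = 0)
    (A E : Submodule (ZMod 2) V) (h : ∀ v ∈ A, ∀ e ∈ E, b v e = 0) :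
    finrank (ZMod 2) A + finrank (ZMod 2) E ≤ finrank (ZMod 2) V := by
  have hb : b.Nondegenerate := by
    refine ⟨fun v hv => hnd v hv, fun v hv => hnd v fun w => ?_⟩
    rw [hsymm]; exact hv w
  have h1 := LinearMap.BilinForm.finrank_orthogonal hb E
  have h2 : A ≤ b.orthogonal E := by
    intro v hv e he
    show b e v = 0
    rw [hsymm]; exact h v hv e he
  have h3 := Submodule.finrank_mono h2
  have h4 : finrank (ZMod 2) E ≤ finrank (ZMod 2) V := Submodule.finrank_le E
  omega


/-- the map `v ↦ τ v + v` -/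
def T (τ : V →ₗ[ZMod 2] V) : V →ₗ[ZMod 2] V := τ + LinearMap.id

theorem T_apply (τ : V →ₗ[ZMod 2] V) (v : V) : T τ v = τ v + v := rfl

section Main

variable [FiniteDimensional (ZMod 2) V]

/-- **The linear algebra lemma**: see the header. -/
theorem lin (b : LinearMap.BilinForm (ZMod 2) V) (hsymm : ∀ v w, b v w = b w v) (halt : ∀ v, b v v = 0)
    (hnd : ∀ v, (∀ w, b v w = 0) → v = 0)
    (τ : V →ₗ[ZMod 2] V) (hττ : ∀ v, τ (τ v) = v) (hτb : ∀ v w, b (τ v) (τ w) = b v w)
    (E : Submodule (ZMod 2) V) (hE3 : finrank (ZMod 2) E = 3) (hEτ : ∀ e ∈ E, τ e = e)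
    (hEE : ∀ e ∈ E, ∀ f ∈ E, b e f = 0)
    (hCE : ∀ c d, τ c = c → τ d = d → c ∉ E → d ∉ E → c + d ∈ E)
    (S : Set (V ≃ₗ[ZMod 2] V)) (hinv : ∀ s ∈ S, s.symm ∈ S) (hS : ∀ s ∈ S, ∀ v, s (τ v) = τ (s v))
    (hSb : ∀ s ∈ S, ∀ v w, b (s v) (s w) = b v w)
    (hSE : ∀ s ∈ S, ∀ e ∈ E, s e ∈ E)
    (irr : ∀ C : Submodule (ZMod 2) V, C ≤ E → (∀ s ∈ S, ∀ c ∈ C, s c ∈ C) → C = ⊥ ∨ C = E) : False := by
  classical
  set K : Submodule (ZMod 2) V := LinearMap.ker (T τ) with hK
  have hmK : ∀ v, v ∈ K ↔ τ v = v := by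
    intro v
    rw [hK, LinearMap.mem_ker, T_apply]
    constructor
    · exact eq_of_add _ _
    · intro h; rw [h, add_self']
  have hEK : E ≤ K := fun e he => (hmK e).2 (hEτ e he)
  have hTT : ∀ v, τ (T τ v) = T τ v := by
    intro v; rw [T_apply, map_add, hττ, add_comm]
  have hRK : LinearMap.range (T τ) ≤ K := by
    rintro _ ⟨v, rfl⟩
    exact (hmK _).2 (hTT v)
  have hbT : ∀ v w, b v (T τ w) = b w (T τ v) := by
    intro v w
    rw [T_apply, T_apply, map_add, map_add, hsymm w v, hsymm w (τ v)]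
    congr 1
    have := hτb v (τ w)
    rw [hττ] at this
    exact this.symm
  have hrn := LinearMap.finrank_range_add_finrank_ker (T τ)
  rw [← hK] at hrn
  have hK4 : finrank (ZMod 2) K ≤ 4 := by
    have h1 := finrank_le_succ E K fun c hc d hd hcE hdE => hCE c d ((hmK c).1 hc) ((hmK d).1 hd) hcE hdE
    have h2 := Submodule.finrank_mono (inf_le_right : K ⊓ E ≤ E)
    omega
  have hK3 : 3 ≤ finrank (ZMod 2) K := by
    have := Submodule.finrank_mono hEK
    omega
  have hST : ∀ s ∈ S, ∀ v, s (T τ v) = T τ (s v) := by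
    intro s hs v
    rw [T_apply, T_apply, map_add, hS s hs]
  -- `range T ∩ E`
  have hRE : LinearMap.range (T τ) ⊓ E = ⊥ ∨ LinearMap.range (T τ) ⊓ E = E := by
    refine irr _ inf_le_right ?_
    rintro s hs _ ⟨⟨v, rfl⟩, hv⟩
    refine ⟨⟨s v, (hST s hs v).symm⟩, hSE s hs _ hv⟩
  rcases hRE with hRE | hRE
  · have h1 := finrank_le_succ E (LinearMap.range (T τ)) fun c hc d hd hcE hdE =>
      hCE c d ((hmK c).1 (hRK hc)) ((hmK d).1 (hRK hd)) hcE hdE
    rw [hRE, finrank_bot] at h1
    have h2 := finrank_perp_le b hsymm hnd E E hEE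
    omega
  have hER : E ≤ LinearMap.range (T τ) := by rw [← hRE]; exact inf_le_left
  set W : Submodule (ZMod 2) V := E.comap (T τ) with hW
  have hmW : ∀ v, v ∈ W ↔ T τ v ∈ E := fun v => Iff.rfl
  have hKW : K ≤ W := by
    intro v hv
    rw [hmW, LinearMap.mem_ker.1 hv]; exact E.zero_mem
  -- dimension of a subspace of `W` containing `K`
  have hdim : ∀ A : Submodule (ZMod 2) V, K ≤ A →
      finrank (ZMod 2) A = finrank (ZMod 2) ↥(A.map (T τ)) + finrank (ZMod 2) K := by
    intro A hA
    have h1 := LinearMap.finrank_range_add_finrank_ker ((T τ).domRestrict A)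
    have h2 : LinearMap.range ((T τ).domRestrict A) = A.map (T τ) := by
      ext x
      constructor
      · rintro ⟨y, rfl⟩; exact ⟨y, y.2, rfl⟩
      · rintro ⟨y, hy, rfl⟩; exact ⟨⟨y, hy⟩, rfl⟩
    have h3 : finrank (ZMod 2) ↥(LinearMap.ker ((T τ).domRestrict A)) = finrank (ZMod 2) K := by
      have h4 : LinearMap.ker ((T τ).domRestrict A) = K.comap A.subtype := by
        ext x; rfl
      rw [h4]
      exact (Submodule.comapSubtypeEquivOfLe hA).finrank_eq
    rw [h2, h3] at h1
    omega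
  have hWmap : W.map (T τ) = E := by
    apply le_antisymm
    · rintro _ ⟨v, hv, rfl⟩; exact hv
    · intro e he
      obtain ⟨v, rfl⟩ := hER he
      exact ⟨v, he, rfl⟩
  have hWdim : finrank (ZMod 2) W = 3 + finrank (ZMod 2) K := by rw [hdim W hKW, hWmap, hE3]
  have hSW : ∀ s ∈ S, ∀ v ∈ W, s v ∈ W := by
    intro s hs v hv
    rw [hmW, ← hST s hs]
    exact hSE s hs _ hv
  -- an invariant subspace of `W` containing `K` is `K` or `W`
  have hinvW : ∀ A : Submodule (ZMod 2) V, K ≤ A → A ≤ W → (∀ s ∈ S, ∀ v ∈ A, s v ∈ A) → A = K ∨ A = W := by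
    intro A hKA hAW hA
    have h1 : A.map (T τ) = ⊥ ∨ A.map (T τ) = E := by
      refine irr _ ?_ ?_
      · rw [← hWmap]; exact Submodule.map_mono hAW
      · rintro s hs _ ⟨v, hv, rfl⟩
        exact ⟨s v, hA s hs v hv, (hST s hs v).symm⟩
    rcases h1 with h1 | h1
    · left
      apply le_antisymm _ hKA
      intro v hv
      rw [hK, LinearMap.mem_ker]
      have : T τ v ∈ A.map (T τ) := ⟨v, hv, rfl⟩
      rw [h1] at this
      exact (Submodule.mem_bot _).1 this
    · right
      refine Submodule.eq_of_le_of_finrank_eq hAW ?_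
      rw [hdim A hKA, h1, hE3, hWdim]
  -- `β (w, w) = 0` on `W`
  set L : V →ₗ[ZMod 2] ZMod 2 :=
    { toFun := fun v => b v (T τ v)
      map_add' := fun v w => by
        simp only [map_add, LinearMap.add_apply]
        rw [hbT v w]
        have h2 : ∀ c : ZMod 2, c + c = 0 := by decide
        calc b v (T τ v) + b w (T τ v) + (b w (T τ v) + b w (T τ w))
            = b v (T τ v) + (b w (T τ v) + b w (T τ v)) + b w (T τ w) := by ring
          _ = _ := by rw [h2, add_zero]
      map_smul' := fun c v => by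
        rcases zt c with rfl | rfl <;> simp } with hL
  have hLa : ∀ v, L v = b v (T τ v) := fun v => rfl
  have hLW : W ⊓ LinearMap.ker L = W := by
    have h1 := hinvW (W ⊓ LinearMap.ker L) (fun v hv => ⟨hKW hv, by
        show L v = 0
        rw [hLa, LinearMap.mem_ker.1 hv, map_zero]⟩) inf_le_left (by
        rintro s hs v ⟨hv, hv2⟩
        refine ⟨hSW s hs v hv, ?_⟩
        show L (s v) = 0
        rw [hLa, ← hST s hs, hSb s hs, ← hLa]
        exact hv2)
    rcases h1 with h1 | h1
    · exfalso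
      have h2 := finrank_le_succ (LinearMap.ker L) W fun c hc d hd hcA hdA => by
        rw [LinearMap.mem_ker] at hcA hdA ⊢
        rw [map_add, (zt _).resolve_left hcA, (zt _).resolve_left hdA]
        decide
      rw [h1] at h2
      omega
    · exact h1
  have hLW' : ∀ w ∈ W, b w (T τ w) = 0 := by
    intro w hw
    rw [← hLW] at hw
    exact LinearMap.mem_ker.1 hw.2
  -- the form on `W`
  set β : LinearMap.BilinForm (ZMod 2) W :=
    (b.compl₁₂ (LinearMap.id) (T τ)).domRestrict₁₂ W W with hβ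
  have hβa : ∀ v w : W, β v w = b v (T τ w) := fun v w => rfl
  have hβalt : β.IsAlt := fun v => hLW' v v.2
  obtain ⟨m, hm⟩ := Cfsg.Agent.ClassicalGeometry.TwoFamilies.exists_finrank_eq_ker_add β hβalt
  set R : Submodule (ZMod 2) V := (LinearMap.ker β).map W.subtype with hR
  have hmR : ∀ v, v ∈ R ↔ v ∈ W ∧ ∀ w ∈ W, b v (T τ w) = 0 := by
    intro v
    constructor
    · rintro ⟨x, hx, rfl⟩
      refine ⟨x.2, fun w hw => ?_⟩
      have := LinearMap.congr_fun (LinearMap.mem_ker.1 hx) ⟨w, hw⟩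
      exact this
    · rintro ⟨h1, h2⟩
      refine ⟨⟨v, h1⟩, ?_, rfl⟩
      rw [SetLike.mem_coe, LinearMap.mem_ker]
      ext w
      exact h2 w w.2
  have hRdim : finrank (ZMod 2) R = finrank (ZMod 2) ↥(LinearMap.ker β) :=
    (Submodule.equivMapOfInjective _ W.injective_subtype _).finrank_eq.symm
  have hRW := hinvW R (fun v hv => by
      rw [hmR]
      refine ⟨hKW hv, fun w hw => ?_⟩
      rw [hbT, LinearMap.mem_ker.1 hv, map_zero]) (fun v hv => ((hmR v).1 hv).1) (by
      intro s hs v hv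
      rw [hmR] at hv ⊢
      refine ⟨hSW s hs v hv.1, fun w hw => ?_⟩
      have h1 : s (s.symm w) = w := s.apply_symm_apply w
      rw [← h1, ← hST s hs, hSb s hs]
      exact hv.2 _ (hSW _ (hinv s hs) w hw))
  rcases hRW with h1 | h1
  · rw [← hRdim, h1, hWdim] at hm
    omega
  · -- `W ⊥ E`
    have h2 := finrank_perp_le b hsymm hnd W E (by
      intro v hv e he
      rw [← hWmap] at he
      obtain ⟨w, hw, rfl⟩ := he
      rw [← h1] at hv
      exact ((hmR v).1 hv).2 w hw)
    have h3 := Submodule.finrank_mono hRK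
    omega

end Main

end Cfsg.Agent.OddHalf.E2.ExtraLin
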