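import Mathlib

/-!
# ODD half, D8, type (E2) (`K = He`, `K = M₂₄`): steps (7), (8) of helper83's text, abstract form (helper458)

`X = C_G(z) / ⟨z⟩`, `U = B / ⟨z⟩` the irreducible normal elementary abelian subgroup of order `2⁷`, `t` an involution with
`[U, t] = E`, `C_U(t) = E × ⟨n⟩`, `P = C_K(z) / ⟨z⟩`, `R = O₂(P)`.
-/

set_option autoImplicit false

namespace Cfsg.Agent.OddHalf.E2.Kill

open Subgroup

variable {X : Type*} [Group X]

/-- `M` is a hyperplane of the elementary abelian group `U` -/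
structure IsHyp (M U : Subgroup X) : Prop where
  le : M ≤ U
  ex : ∃ a ∈ U, a ∉ M
  mul : ∀ a ∈ U, ∀ b ∈ U, a ∉ M → b ∉ M → a * b ∈ M

theorem exists_hyp [Finite X] {U E : Subgroup X} (abU : ∀ a ∈ U, ∀ b ∈ U, a * b = b * a)
    (sqU : ∀ a ∈ U, a * a = 1) (hE : E ≤ U) {n : X} (hn : n ∈ U) (hnE : n ∉ E) :
    ∃ M, IsHyp M U ∧ E ≤ M ∧ n ∉ M := by
  classical
  have hfin : Set.Finite {M : Subgroup X | E ≤ M ∧ M ≤ U ∧ n ∉ M} := Set.toFinite _
  obtain ⟨M, hM⟩ := hfin.exists_maximal ⟨E, le_rfl, hE, hnE⟩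
  obtain ⟨⟨hEM, hMU, hnM⟩, hmax⟩ := hM
  have key : ∀ a ∈ U, a ∉ M → a * n ∈ M := by
    intro a ha haM
    let M' : Subgroup X :=
      { carrier := {x | x ∈ M ∨ a * x ∈ M}
        one_mem' := Or.inl M.one_mem
        mul_mem' := by
          intro x y hx hy
          rcases hx with hx | hx <;> rcases hy with hy | hy
          · exact Or.inl (M.mul_mem hx hy)
          · right
            have h1 : a * (x * y) = x * (a * y) := by
              rw [← mul_assoc, abU a ha x (hMU hx), mul_assoc]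
            rw [h1]; exact M.mul_mem hx hy
          · right; rw [← mul_assoc]; exact M.mul_mem hx hy
          · left
            have hyU : y ∈ U := by
              have : y = a⁻¹ * (a * y) := by group
              rw [this]; exact U.mul_mem (U.inv_mem ha) (hMU hy)
            have hxU : x ∈ U := by
              have : x = a⁻¹ * (a * x) := by group
              rw [this]; exact U.mul_mem (U.inv_mem ha) (hMU hx)
            have h1 : x * y = (a * x) * (a * y) := by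
              calc x * y = (a * a) * (x * y) := by rw [sqU a ha, one_mul]
                _ = a * (a * x) * y := by group
                _ = a * (x * a) * y := by rw [abU a ha x hxU]
                _ = (a * x) * (a * y) := by group
            rw [h1]; exact M.mul_mem hx hy
        inv_mem' := by
          intro x hx
          rcases hx with hx | hx
          · exact Or.inl (M.inv_mem hx)
          · right
            have hxU : x ∈ U := by
              have : x = a⁻¹ * (a * x) := by group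
              rw [this]; exact U.mul_mem (U.inv_mem ha) (hMU hx)
            have h1 : x⁻¹ = x := inv_eq_of_mul_eq_one_left (sqU x hxU)
            rw [h1]; exact hx }
    have h1 : M ≤ M' := fun x hx => Or.inl hx
    have h2 : a ∈ M' := Or.inr (by rw [sqU a ha]; exact M.one_mem)
    by_contra hcon
    have h3 : n ∉ M' := by
      rintro (h | h)
      · exact hnM h
      · exact hcon h
    have h4 : M' ≤ U := by
      rintro x (hx | hx)
      · exact hMU hx
      · have : x = a⁻¹ * (a * x) := by group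
        rw [this]; exact U.mul_mem (U.inv_mem ha) (hMU hx)
    exact haM (hmax ⟨hEM.trans h1, h4, h3⟩ h1 h2)
  refine ⟨M, ⟨hMU, ⟨n, hn, hnM⟩, ?_⟩, hEM, hnM⟩
  intro a ha b hb haM hbM
  have h1 := M.mul_mem (key a ha haM) (key b hb hbM)
  have h2 : a * n * (b * n) = a * b := by
    calc a * n * (b * n) = a * (n * b) * n := by group
      _ = a * (b * n) * n := by rw [abU n hn b hb]
      _ = a * b * (n * n) := by group
      _ = a * b := by rw [sqU n hn, mul_one]
  rwa [h2] at h1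

/-- all transvections of `U` with centre `c` are induced -/
def Full (U : Subgroup X) (c : X) : Prop :=
  ∀ M, IsHyp M U → c ∈ M → ∃ g, (∀ a ∈ M, g * a * g⁻¹ = a) ∧ ∀ a ∈ U, a ∉ M → g * a * g⁻¹ = a * c

theorem IsHyp.conj {M U : Subgroup X} (h : IsHyp M U) (norU : ∀ g, ∀ a ∈ U, g * a * g⁻¹ ∈ U) (x : X) :
    IsHyp (M.map (MulAut.conj x).toMonoidHom) U := by
  have hmem : ∀ a, a ∈ M.map (MulAut.conj x).toMonoidHom ↔ x⁻¹ * a * x ∈ M := by
    intro a
    constructor
    · rintro ⟨b, hb, rfl⟩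
      have : x⁻¹ * ((MulAut.conj x).toMonoidHom b) * x = b := by
        simp only [MulEquiv.coe_toMonoidHom, MulAut.conj_apply]; group
      rw [this]; exact hb
    · intro ha
      exact ⟨_, ha, by simp only [MulEquiv.coe_toMonoidHom, MulAut.conj_apply]; group⟩
  have nor' : ∀ a ∈ U, x⁻¹ * a * x ∈ U := by
    intro a ha
    have := norU x⁻¹ a ha
    rwa [inv_inv] at this
  refine ⟨?_, ?_, ?_⟩
  · intro a ha
    rw [hmem] at ha
    have := norU x _ (h.le ha)
    have e : x * (x⁻¹ * a * x) * x⁻¹ = a := by group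
    rwa [e] at this
  · obtain ⟨a, ha, haM⟩ := h.ex
    refine ⟨x * a * x⁻¹, norU x a ha, ?_⟩
    rw [hmem]
    have e : x⁻¹ * (x * a * x⁻¹) * x = a := by group
    rwa [e]
  · intro a ha b hb haM hbM
    rw [hmem] at haM hbM ⊢
    have := h.mul _ (nor' a ha) _ (nor' b hb) haM hbM
    have e : x⁻¹ * a * x * (x⁻¹ * b * x) = x⁻¹ * (a * b) * x := by group
    rwa [e] at this

theorem Full.conj {U : Subgroup X} (norU : ∀ g, ∀ a ∈ U, g * a * g⁻¹ ∈ U) {c : X} (hc : Full U c) (x : X) :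
    Full U (x * c * x⁻¹) := by
  intro M hM hcM
  have hM' := hM.conj norU x⁻¹
  have hmem : ∀ a, a ∈ M.map (MulAut.conj x⁻¹).toMonoidHom ↔ x * a * x⁻¹ ∈ M := by
    intro a
    constructor
    · rintro ⟨b, hb, rfl⟩
      have : x * ((MulAut.conj x⁻¹).toMonoidHom b) * x⁻¹ = b := by
        simp only [MulEquiv.coe_toMonoidHom, MulAut.conj_apply]; group
      rw [this]; exact hb
    · intro ha
      exact ⟨_, ha, by simp only [MulEquiv.coe_toMonoidHom, MulAut.conj_apply]; group⟩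
  obtain ⟨g, h1, h2⟩ := hc _ hM' ((hmem c).2 hcM)
  refine ⟨x * g * x⁻¹, ?_, ?_⟩
  · intro a ha
    have h3 : x⁻¹ * a * x ∈ M.map (MulAut.conj x⁻¹).toMonoidHom := by
      rw [hmem]
      have e : x * (x⁻¹ * a * x) * x⁻¹ = a := by group
      rwa [e]
    have h4 := h1 _ h3
    calc x * g * x⁻¹ * a * (x * g * x⁻¹)⁻¹ = x * (g * (x⁻¹ * a * x) * g⁻¹) * x⁻¹ := by group
      _ = a := by rw [h4]; group
  · intro a ha haM
    have h3 : x⁻¹ * a * x ∉ M.map (MulAut.conj x⁻¹).toMonoidHom := by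
      rw [hmem]
      have e : x * (x⁻¹ * a * x) * x⁻¹ = a := by group
      rwa [e]
    have h5 : x⁻¹ * a * x ∈ U := by
      have := norU x⁻¹ a ha
      rwa [inv_inv] at this
    have h4 := h2 _ h5 h3
    calc x * g * x⁻¹ * a * (x * g * x⁻¹)⁻¹ = x * (g * (x⁻¹ * a * x) * g⁻¹) * x⁻¹ := by group
      _ = a * (x * c * x⁻¹) := by rw [h4]; group

theorem Full.mul [Finite X] {U : Subgroup X} (abU : ∀ a ∈ U, ∀ b ∈ U, a * b = b * a)
    (sqU : ∀ a ∈ U, a * a = 1) (norU : ∀ g, ∀ a ∈ U, g * a * g⁻¹ ∈ U) {c c' : X} (hcU : c ∈ U) (hcU' : c' ∈ U)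
    (hc : Full U c) (hc' : Full U c') (hne : c' ≠ c) (h1 : c' ≠ 1) : Full U (c' * c) := by
  have hE : ∃ M, IsHyp M U ∧ c ∈ M ∧ c' ∉ M := by
    have h2 : c' ∉ zpowers c := by
      intro h
      obtain ⟨k, hk⟩ := mem_zpowers_iff.1 h
      have hc2 : c ^ (2 : ℤ) = 1 := by
        have := sqU c hcU
        rw [zpow_ofNat, pow_two]; exact this
      rcases Int.even_or_odd' k with ⟨j, rfl | rfl⟩
      · rw [zpow_mul, hc2, one_zpow] at hk
        exact h1 hk.symm
      · rw [zpow_add, zpow_mul, hc2, one_zpow, one_mul, zpow_one] at hk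
        exact hne hk.symm
    obtain ⟨M, hM, hcM, hcM'⟩ := exists_hyp abU sqU ((zpowers_le).2 hcU) hcU' h2
    exact ⟨M, hM, hcM (mem_zpowers c), hcM'⟩
  obtain ⟨M, hM, hcM, hcM'⟩ := hE
  obtain ⟨g, -, h2⟩ := hc M hM hcM
  rw [← h2 c' hcU' hcM']
  exact hc'.conj norU g

/-- The data of steps (7), (8). -/
structure Red (t n : X) (U E P R : Subgroup X) : Prop where
  tt : t * t = 1
  norU : ∀ g, ∀ a ∈ U, g * a * g⁻¹ ∈ U
  abU : ∀ a ∈ U, ∀ b ∈ U, a * b = b * a
  sqU : ∀ a ∈ U, a * a = 1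
  /-- `C_X(U) ≤ U` -/
  selfU : ∀ g, (∀ a ∈ U, g * a * g⁻¹ = a) → g ∈ U
  /-- `U` is an irreducible `X`-module -/
  irr : ∀ W ≤ U, (∀ g, ∀ w ∈ W, g * w * g⁻¹ ∈ W) → W = ⊥ ∨ W = U
  nU : n ∈ U
  EU : E ≤ U
  nE : n ∉ E
  nt : n * t = t * n
  Et : ∀ e ∈ E, e * t = t * e
  /-- `C_U(t) = ⟨n⟩ E` -/
  fixU : ∀ a ∈ U, a * t = t * a → a ∈ E ∨ n * a ∈ E
  /-- `[U, t] = E` -/
  comU : ∀ a ∈ U, t * a * t⁻¹ * a⁻¹ ∈ E
  surj : ∀ e ∈ E, ∃ a ∈ U, t * a * t⁻¹ * a⁻¹ = e
  /-- `t^X ∩ t U ≤ t E` -/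
  fus : ∀ g, g * t * g⁻¹ * t ∈ U → g * t * g⁻¹ * t ∈ E
  /-- `C_X(t)` centralises `n` -/
  cen : ∀ g, g * t = t * g → g * n = n * g
  Pt : ∀ p ∈ P, p * t = t * p
  norE : ∀ p ∈ P, ∀ e ∈ E, p * e * p⁻¹ ∈ E
  ER : E ≤ R
  RP : R ≤ P
  norR : ∀ p ∈ P, ∀ r ∈ R, p * r * p⁻¹ ∈ R
  abR : ∀ r ∈ R, ∀ s ∈ R, r * s = s * r
  sqR : ∀ r ∈ R, r * r = 1
  /-- `R / E` is paired faithfully with `U / ⟨n⟩ E` -/
  nd : ∀ r ∈ R, (∀ a ∈ U, r * a * r⁻¹ * a⁻¹ ∈ E) → r ∈ E
  RE : ∃ r ∈ R, r ∉ E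
  UP : ∀ a ∈ U, a ∈ P → a ∈ E
  /-- `C_P(R / E) = R` -/
  cRE : ∀ p ∈ P, (∀ r ∈ R, p * r * p⁻¹ * r⁻¹ ∈ E) → p ∈ R
  /-- `P` induces all transvections on `E` -/
  tv : ∀ V, IsHyp V E → ∀ a ∈ V, ∃ p ∈ P, (∀ v ∈ V, p * v * p⁻¹ = v) ∧ ∀ v ∈ E, v ∉ V → p * v * p⁻¹ = v * a

namespace Red

variable {t n : X} {U E P R : Subgroup X}

theorem t_inv (h : Red t n U E P R) : t⁻¹ = t := inv_eq_of_mul_eq_one_left h.tt

theorem n_ne (h : Red t n U E P R) : n ≠ 1 := fun e => h.nE (by rw [e]; exact E.one_mem)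

theorem inv_U (h : Red t n U E P R) {a : X} (ha : a ∈ U) : a⁻¹ = a := inv_eq_of_mul_eq_one_left (h.sqU a ha)

/-- **(8a)** not all transvections with centre `n` are induced -/
theorem not_full [Finite X] (h : Red t n U E P R) (hE : ∃ c ∈ E, c ≠ 1) : ¬ Full U n := by
  intro hn
  classical
  let W : Subgroup X :=
    { carrier := {c | c ∈ U ∧ (c = 1 ∨ Full U c)}
      one_mem' := ⟨U.one_mem, Or.inl rfl⟩
      mul_mem' := by
        rintro c c' ⟨hc, hc1⟩ ⟨hc', hc1'⟩
        refine ⟨U.mul_mem hc hc', ?_⟩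
        rcases hc1 with rfl | hc1
        · rw [one_mul]; exact hc1'
        rcases hc1' with rfl | hc1'
        · rw [mul_one]; exact Or.inr hc1
        by_cases h1 : c = 1
        · rw [h1, one_mul]; exact Or.inr hc1'
        by_cases h2 : c = c'
        · left; rw [h2]; exact h.sqU c' hc'
        · right
          exact hc1'.mul h.abU h.sqU h.norU hc' hc hc1 h2 h1
      inv_mem' := by
        rintro c ⟨hc, hc1⟩
        rw [h.inv_U hc]
        exact ⟨hc, hc1⟩ }
  have hWU : W ≤ U := fun c hc => hc.1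
  have hWn : ∀ g, ∀ w ∈ W, g * w * g⁻¹ ∈ W := by
    rintro g w ⟨hw, hw1⟩
    refine ⟨h.norU g w hw, ?_⟩
    rcases hw1 with rfl | hw1
    · left; group
    · right; exact hw1.conj h.norU g
  have hnW : n ∈ W := ⟨h.nU, Or.inr hn⟩
  rcases h.irr W hWU hWn with hW | hW
  · rw [hW, mem_bot] at hnW
    exact h.n_ne hnW
  obtain ⟨c, hcE, hc1⟩ := hE
  have hcW : c ∈ W := by rw [hW]; exact h.EU hcE
  have hcF : Full U c := hcW.2.resolve_left hc1
  obtain ⟨M, hM, hEM, hnM⟩ := exists_hyp h.abU h.sqU h.EU h.nU h.nE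
  obtain ⟨g, g1, g2⟩ := hcF M hM (hEM hcE)
  -- the inverse of `g`
  have g1' : ∀ a ∈ M, g⁻¹ * a * g = a := by
    intro a ha
    have := g1 a ha
    calc g⁻¹ * a * g = g⁻¹ * (g * a * g⁻¹) * g := by rw [this]
      _ = a := by group
  have g2' : ∀ a ∈ U, a ∉ M → g⁻¹ * a * g = a * c := by
    intro a ha haM
    have e1 := g2 a ha haM
    have e2 := g1' c (hEM hcE)
    have e3 : g⁻¹ * (a * c) * g = a := by rw [← e1]; group
    have e4 : g⁻¹ * (a * c) * g = (g⁻¹ * a * g) * (g⁻¹ * c * g) := by group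
    rw [e4, e2] at e3
    calc g⁻¹ * a * g = (g⁻¹ * a * g) * c * c⁻¹ := by group
      _ = a * c := by rw [e3, h.inv_U (h.EU hcE)]
  have hct : c * t = t * c := h.Et c hcE
  have key : g * t * g⁻¹ * t ∈ U := by
    apply h.selfU
    intro a ha
    have hti := h.t_inv
    obtain ⟨e, he, hea⟩ : ∃ e ∈ E, t * a * t⁻¹ = e * a :=
      ⟨t * a * t⁻¹ * a⁻¹, h.comU a ha, by group⟩
    have heU := h.EU he
    have hea' : t * a * t = e * a := by rw [← hea, hti]
    have hta : t * (e * a) * t = a := by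
      rw [← hea']
      calc t * (t * a * t) * t = (t * t) * a * (t * t) := by group
        _ = a := by rw [h.tt, one_mul, mul_one]
    have e0 : g * t * g⁻¹ * t * a * (g * t * g⁻¹ * t)⁻¹ = g * (t * (g⁻¹ * (t * a * t) * g) * t) * g⁻¹ := by
      have : (g * t * g⁻¹ * t)⁻¹ = t * g * t * g⁻¹ := by
        rw [mul_inv_rev, mul_inv_rev, mul_inv_rev, inv_inv, hti]; group
      rw [this]; group
    rw [e0, hea']
    by_cases haM : a ∈ M
    · have h1 : e * a ∈ M := M.mul_mem (hEM he) haM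
      rw [g1' _ h1, hta, g1 a haM]
    · have h1 : e * a ∉ M := by
        intro h1
        apply haM
        have : a = e⁻¹ * (e * a) := by group
        rw [this]; exact M.mul_mem (M.inv_mem (hEM he)) h1
      rw [g2' _ (U.mul_mem heU ha) h1]
      have h2 : t * (e * a * c) * t = a * c := by
        calc t * (e * a * c) * t = t * (e * a) * (c * t) := by group
          _ = t * (e * a) * (t * c) := by rw [hct]
          _ = t * (e * a) * t * c := by group
          _ = a * c := by rw [hta]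
      rw [h2]
      calc g * (a * c) * g⁻¹ = (g * a * g⁻¹) * (g * c * g⁻¹) := by group
        _ = a * c * c := by rw [g2 a ha haM, g1 c (hEM hcE)]
        _ = a := by rw [mul_assoc, h.sqU c (h.EU hcE), mul_one]
  obtain ⟨a, ha, hae⟩ := h.surj _ (h.fus g key)
  rw [h.t_inv] at hae
  -- `a⁻¹ g` centralises `t`
  have h1 : a * t * a⁻¹ = g * t * g⁻¹ := by
    have h2 : t * a * t * a⁻¹ * t = g * t * g⁻¹ := by
      rw [hae, mul_assoc, h.tt, mul_one]
    have h3 : t * a * t * a⁻¹ * t = a * t * a⁻¹ := by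
      have h4 : t * a * t * a⁻¹ ∈ E := by rw [hae]; exact h.fus g key
      have h5 := h.Et _ h4
      rw [h5]
      calc t * (t * a * t * a⁻¹) = (t * t) * a * t * a⁻¹ := by group
        _ = a * t * a⁻¹ := by rw [h.tt, one_mul]
    rw [← h3, h2]
  have h2 : a⁻¹ * g * t = t * (a⁻¹ * g) := by
    calc a⁻¹ * g * t = a⁻¹ * (g * t * g⁻¹) * g := by group
      _ = a⁻¹ * (a * t * a⁻¹) * g := by rw [h1]
      _ = t * (a⁻¹ * g) := by group
  have h3 := h.cen _ h2
  have h4 : g * n * g⁻¹ = n := by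
    have e1 : g * n * g⁻¹ = a * (a⁻¹ * g * n) * g⁻¹ := by group
    rw [e1, h3]
    calc a * (n * (a⁻¹ * g)) * g⁻¹ = a * n * a⁻¹ := by group
      _ = n * a * a⁻¹ := by rw [h.abU a ha n h.nU]
      _ = n := by group
  rw [g2 n h.nU hnM] at h4
  exact hc1 (by simpa using h4)

end Red

end Cfsg.Agent.OddHalf.E2.Kill
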