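import Cfsg.Agent.OddHalf.E2.KillSeven

/-!
# ODD half, D8, type (E2): step (8), the contradiction in `C_G(z) / ⟨z⟩` (helper458)
-/

set_option autoImplicit false

namespace Cfsg.Agent.OddHalf.E2.Kill

open Subgroup

variable {X : Type*} [Group X]

namespace Red

variable {t n : X} {U E P R : Subgroup X}

/-- every hyperplane of `E` belongs to an element of `R` -/
theorem exists_r (h : Red t n U E P R) {V' : Subgroup X} (hV' : IsHyp V' E) :
    ∃ r, ∃ hr : r ∈ R, r ∉ E ∧ h.V hr = V' := by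
  obtain ⟨r, hr, hrE⟩ := h.RE
  by_cases hne : h.V hr = V'
  · exact ⟨r, hr, hrE, hne⟩
  have h1 := h.V_hyp hr hrE
  obtain ⟨a, ha, ha1, ha2⟩ := exists_notMem_two h1 hV' hne
  obtain ⟨p, hp, p1, p2⟩ := h.tv _ (third_hyp h1 hV' hne) a ⟨ha, by tauto⟩
  have hVV : ∀ v ∈ h.V hr, p * v * p⁻¹ ∈ V' := by
    intro v hv
    by_cases hv2 : v ∈ V'
    · rw [p1 v ⟨h1.le hv, by tauto⟩]; exact hv2
    · rw [p2 v (h1.le hv) (by rw [mem_third]; tauto)]
      exact hV'.mul v (h1.le hv) a ha hv2 ha2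
  refine ⟨p * r * p⁻¹, h.norR p hp r hr, h.conj_notMem_E hp hrE, ?_⟩
  apply (h.V_hyp _ (h.conj_notMem_E hp hrE)).eq_of_le hV'
  intro v hv
  have h3 := h.V_conj (P.inv_mem hp) (h.norR p hp r hr) hv
  have h4 : ∀ w, w ∈ h.V (h.norR p⁻¹ (P.inv_mem hp) _ (h.norR p hp r hr)) → w ∈ h.V hr := by
    intro w hw
    refine ⟨hw.1, fun x hx hxw => ?_⟩
    have := hw.2 x hx hxw
    have e : p⁻¹ * (p * r * p⁻¹) * p⁻¹⁻¹ = r := by group
    rwa [e] at this
  have h5 := hVV _ (h4 _ h3)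
  have e : p * (p⁻¹ * v * p⁻¹⁻¹) * p⁻¹ = v := by group
  rwa [e] at h5

/-- every transvection with centre `n` and axis containing `E` comes from `R` -/
theorem exists_transv [Finite X] (h : Red t n U E P R) (h8 : 8 ≤ Nat.card E) {M : Subgroup X} (hM : IsHyp M U)
    (hEM : E ≤ M) (hnM : n ∈ M) :
    ∃ r ∈ R, ∀ x ∈ U, (x ∈ M → cm r x = 1) ∧ (x ∉ M → cm r x = n) := by
  -- elements of `U` centralised by `t` are in `M`
  have hfix : ∀ x ∈ U, x * t = t * x → x ∈ M := by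
    intro x hx hxt
    rcases h.fixU x hx hxt with h1 | h1
    · exact hEM h1
    · have e : x = n⁻¹ * (n * x) := by group
      rw [e]; exact M.mul_mem (M.inv_mem hnM) (hEM h1)
  have hdep : ∀ x ∈ U, ∀ y ∈ U, tau t x = tau t y → x ∈ M → y ∈ M := by
    intro x hx y hy hxy hxM
    have hw : x⁻¹ * y ∈ U := U.mul_mem (U.inv_mem hx) hy
    have e : y = x * (x⁻¹ * y) := by group
    have h1 : tau t (x⁻¹ * y) = 1 := by
      have h2 : tau t y = tau t x * tau t (x⁻¹ * y) := by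
        rw [← h.tau_mul hx hw]; congr 1
      rw [hxy] at h2
      exact (mul_eq_left.1 h2.symm)
    rw [e]; exact M.mul_mem hxM (hfix _ hw (h.tau_eq_one h1))
  let V' : Subgroup X :=
    { carrier := {v | v ∈ E ∧ ∀ x ∈ U, tau t x = v → x ∈ M}
      one_mem' := ⟨E.one_mem, fun x hx hx1 => hfix x hx (h.tau_eq_one hx1)⟩
      mul_mem' := by
        rintro v w ⟨hv, hv1⟩ ⟨hw, hw1⟩
        refine ⟨E.mul_mem hv hw, ?_⟩
        intro x hx hxt
        obtain ⟨y, hy, hyv⟩ := h.surj v hv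
        have hyx : y⁻¹ * x ∈ U := U.mul_mem (U.inv_mem hy) hx
        have e : x = y * (y⁻¹ * x) := by group
        have h1 : tau t (y⁻¹ * x) = w := by
          have h2 : tau t x = tau t y * tau t (y⁻¹ * x) := by
            rw [← h.tau_mul hy hyx]; congr 1
          rw [hxt, show tau t y = v from hyv] at h2
          exact (mul_left_cancel h2).symm
        rw [e]; exact M.mul_mem (hv1 y hy hyv) (hw1 _ hyx h1)
      inv_mem' := by
        rintro v ⟨hv, hv1⟩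
        rw [h.inv_E hv]
        exact ⟨hv, hv1⟩ }
  have hV'mem : ∀ x ∈ U, (tau t x ∈ V' ↔ x ∈ M) := by
    intro x hx
    constructor
    · intro h1; exact h1.2 x hx rfl
    · intro h1; exact ⟨h.tau_mem hx, fun y hy hyx => hdep x hx y hy hyx.symm h1⟩
  have hV' : IsHyp V' E := by
    refine ⟨fun v hv => hv.1, ?_, ?_⟩
    · obtain ⟨x, hx, hxM⟩ := hM.ex
      exact ⟨tau t x, h.tau_mem hx, fun h1 => hxM ((hV'mem x hx).1 h1)⟩
    · intro v hv w hw hv1 hw1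
      obtain ⟨x, hx, rfl⟩ := h.surj v hv
      obtain ⟨y, hy, rfl⟩ := h.surj w hw
      have hx1 : x ∉ M := fun h1 => hv1 ((hV'mem x hx).2 h1)
      have hy1 : y ∉ M := fun h1 => hw1 ((hV'mem y hy).2 h1)
      have h1 := (hV'mem (x * y) (U.mul_mem hx hy)).2 (hM.mul x hx y hy hx1 hy1)
      rw [h.tau_mul hx hy] at h1
      exact h1
  obtain ⟨r, hr, hrE, hVr⟩ := h.exists_r hV'
  refine ⟨r, hr, fun x hx => ?_⟩
  have h1 := h.mem_V hr hx
  rw [hVr, hV'mem x hx] at h1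
  have h2 := h.R_transv h8 hr hx
  constructor
  · intro hxM
    rcases h2 with h2 | h2
    · exact h2
    · exact absurd (h1.1 hxM) (by rw [h2]; exact h.nE)
  · intro hxM
    rcases h2 with h2 | h2
    · exact absurd (h1.2 (by rw [h2]; exact E.one_mem)) hxM
    · exact h2

/-- `g` induces `1` or a transvection with centre `n` on `U` -/
def IsTr (U : Subgroup X) (n g : X) : Prop := ∀ x ∈ U, cm g x = 1 ∨ cm g x = n

theorem tr_n (h : Red t n U E P R) {g : X} (hg : IsTr U n g) : g * n * g⁻¹ = n := by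
  rcases hg n h.nU with h1 | h1
  · have e : g * n * g⁻¹ = cm g n * n := by unfold cm; group
    rw [e, h1, one_mul]
  · exfalso
    have e : g * n * g⁻¹ = cm g n * n := by unfold cm; group
    rw [h1, h.nn] at e
    have e2 : n = 1 := by
      calc n = g⁻¹ * (g * n * g⁻¹) * g := by group
        _ = 1 := by rw [e]; group
    exact h.n_ne e2

theorem cm_prod (h : Red t n U E P R) {g g' x : X} (hg : IsTr U n g) (hg' : IsTr U n g') (hx : x ∈ U) :
    cm (g * g') x = cm g' x * cm g x := by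
  have h1 : g * cm g' x * g⁻¹ = cm g' x := by
    rcases hg' x hx with h1 | h1
    · rw [h1]; group
    · rw [h1]; exact h.tr_n hg
  calc cm (g * g') x = (g * cm g' x * g⁻¹) * cm g x := by unfold cm; group
    _ = cm g' x * cm g x := by rw [h1]

theorem tr_conj (_h : Red t n U E P R) (norU : ∀ g, ∀ a ∈ U, g * a * g⁻¹ ∈ U) {g p : X} (hg : IsTr U n g)
    (hp : p * n * p⁻¹ = n) : IsTr U n (p * g * p⁻¹) := by
  intro x hx
  have hx' : p⁻¹ * x * p ∈ U := by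
    have := norU p⁻¹ x hx
    rwa [inv_inv] at this
  have e : x = p * (p⁻¹ * x * p) * p⁻¹ := by group
  have e2 : cm (p * g * p⁻¹) x = p * cm g (p⁻¹ * x * p) * p⁻¹ := by
    rw [← cm_conj, ← e]
  rw [e2]
  rcases hg _ hx' with h1 | h1
  · left; rw [h1]; group
  · right; rw [h1, hp]

/-- the axis of a transvection -/
def axis (h : Red t n U E P R) {g : X} (hg : IsTr U n g) : Subgroup X where
  carrier := {x | x ∈ U ∧ cm g x = 1}
  one_mem' := ⟨U.one_mem, by unfold cm; group⟩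
  mul_mem' := by
    rintro a b ⟨ha, ha1⟩ ⟨hb, hb1⟩
    exact ⟨U.mul_mem ha hb, by rw [h.cm_mul g ha hb, ha1, hb1, one_mul]⟩
  inv_mem' := by
    rintro a ⟨ha, ha1⟩
    rw [h.inv_U ha]
    exact ⟨ha, ha1⟩

theorem mem_axis (h : Red t n U E P R) {g : X} (hg : IsTr U n g) (x : X) :
    x ∈ h.axis hg ↔ x ∈ U ∧ cm g x = 1 := Iff.rfl

theorem axis_hyp (h : Red t n U E P R) {g : X} (hg : IsTr U n g) (hgU : g ∉ U) : IsHyp (h.axis hg) U := by
  refine ⟨fun x hx => hx.1, ?_, ?_⟩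
  · by_contra hcon
    push Not at hcon
    apply hgU
    apply h.selfU
    intro a ha
    have := (hcon a ha).2
    have e : g * a * g⁻¹ = cm g a * a := by unfold cm; group
    rw [e, this, one_mul]
  · intro a ha b hb ha1 hb1
    have h1 : cm g a = n := (hg a ha).resolve_left fun hh => ha1 ⟨ha, hh⟩
    have h2 : cm g b = n := (hg b hb).resolve_left fun hh => hb1 ⟨hb, hh⟩
    exact ⟨U.mul_mem ha hb, by rw [h.cm_mul g ha hb, h1, h2, h.nn]⟩

theorem n_axis (h : Red t n U E P R) {g : X} (hg : IsTr U n g) : n ∈ h.axis hg :=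
  ⟨h.nU, by unfold cm; rw [h.tr_n hg]; group⟩

theorem tr_R [Finite X] (h : Red t n U E P R) (h8 : 8 ≤ Nat.card E) {r : X} (hr : r ∈ R) : IsTr U n r :=
  fun _ hx => h.R_transv h8 hr hx

theorem comap_hyp {M U E : Subgroup X} (hM : IsHyp M U) (hE : E ≤ U) (hne : ¬ E ≤ M) : IsHyp (M ⊓ E) E := by
  refine ⟨inf_le_right, ?_, ?_⟩
  · by_contra hcon
    push Not at hcon
    exact hne fun a ha => (hcon a ha).1
  · intro a ha b hb ha1 hb1
    exact ⟨hM.mul a (hE ha) b (hE hb) (fun h1 => ha1 ⟨h1, ha⟩) (fun h1 => hb1 ⟨h1, hb⟩), E.mul_mem ha hb⟩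

/-- if some `g` induces a transvection with centre `n` and does not lie in `U R` then all transvections with
centre `n` are induced -/
theorem full_of [Finite X] (h : Red t n U E P R) (h8 : 8 ≤ Nat.card E) {g : X} (hg : IsTr U n g)
    (hgR : ¬ ∃ r ∈ R, g * r ∈ U) : Full U n := by
  classical
  have hgU : g ∉ U := fun h1 => hgR ⟨1, R.one_mem, by rwa [mul_one]⟩
  have hax := h.axis_hyp hg hgU
  have hEax : ¬ E ≤ h.axis hg := by
    intro hE
    obtain ⟨r, hr, hr1⟩ := h.exists_transv h8 hax hE (h.n_axis hg)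
    apply hgR
    refine ⟨r, hr, h.selfU _ fun x hx => ?_⟩
    have h1 : cm (g * r) x = 1 := by
      rw [h.cm_prod hg (h.tr_R h8 hr) hx]
      by_cases hxa : x ∈ h.axis hg
      · rw [(hr1 x hx).1 hxa, hxa.2, one_mul]
      · rw [(hr1 x hx).2 hxa, (hg x hx).resolve_left fun hh => hxa ⟨hx, hh⟩, h.nn]
    have e : g * r * x * (g * r)⁻¹ = cm (g * r) x * x := by unfold cm; group
    rw [e, h1, one_mul]
  intro M hM hnM
  -- it suffices to find an element with the right action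
  suffices hs : ∃ k, (∀ x ∈ U, (x ∈ M → cm k x = 1) ∧ (x ∉ M → cm k x = n)) by
    obtain ⟨k, hk⟩ := hs
    refine ⟨k, ?_, ?_⟩
    · intro a ha
      have e : k * a * k⁻¹ = cm k a * a := by unfold cm; group
      rw [e, (hk a (hM.le ha)).1 ha, one_mul]
    · intro a ha haM
      have e : k * a * k⁻¹ = cm k a * a := by unfold cm; group
      rw [e, (hk a ha).2 haM, h.abU n h.nU a ha]
  by_cases hEM : E ≤ M
  · obtain ⟨r, -, hr1⟩ := h.exists_transv h8 hM hEM hnM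
    exact ⟨r, hr1⟩
  have hA := comap_hyp hM h.EU hEM
  have hA' := comap_hyp hax h.EU hEax
  obtain ⟨p, hp, hpA⟩ : ∃ p ∈ P, ∀ v ∈ h.axis hg ⊓ E, p * v * p⁻¹ ∈ M ⊓ E := by
    by_cases hne : h.axis hg ⊓ E = M ⊓ E
    · exact ⟨1, P.one_mem, fun v hv => by rw [← hne]; simpa using hv⟩
    obtain ⟨a, ha, ha1, ha2⟩ := exists_notMem_two hA' hA hne
    obtain ⟨p, hp, p1, p2⟩ := h.tv _ (third_hyp hA' hA hne) a ⟨ha, by tauto⟩
    refine ⟨p, hp, fun v hv => ?_⟩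
    by_cases hv2 : v ∈ M ⊓ E
    · rw [p1 v ⟨hA'.le hv, by tauto⟩]; exact hv2
    · rw [p2 v (hA'.le hv) (by rw [mem_third]; tauto)]
      exact hA.mul v (hA'.le hv) a ha hv2 ha2
  have hg' : IsTr U n (p * g * p⁻¹) := h.tr_conj h.norU hg (h.Pn' hp)
  have hg'U : p * g * p⁻¹ ∉ U := by
    intro h1
    apply hgU
    have h2 := h.norU p⁻¹ _ h1
    have e : p⁻¹ * (p * g * p⁻¹) * p⁻¹⁻¹ = g := by group
    rwa [e] at h2
  have hax' := h.axis_hyp hg' hg'U
  -- `axis g' ∩ E = M ∩ E`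
  have hle : ∀ e ∈ E, e ∈ h.axis hg' → e ∈ M := by
    intro e he hea
    have he' : p⁻¹ * e * p ∈ E := by
      have := h.norE p⁻¹ (P.inv_mem hp) e he
      rwa [inv_inv] at this
    have h1 : p⁻¹ * e * p ∈ h.axis hg := by
      refine ⟨h.EU he', ?_⟩
      have h2 : cm (p * g * p⁻¹) e = p * cm g (p⁻¹ * e * p) * p⁻¹ := by
        rw [← cm_conj]; congr 1; group
      rw [hea.2] at h2
      calc cm g (p⁻¹ * e * p) = p⁻¹ * (p * cm g (p⁻¹ * e * p) * p⁻¹) * p := by group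
        _ = 1 := by rw [← h2]; group
    have h3 := hpA _ ⟨h1, he'⟩
    have e1 : p * (p⁻¹ * e * p) * p⁻¹ = e := by group
    rw [e1] at h3
    exact h3.1
  have hEax' : ¬ E ≤ h.axis hg' := fun hh => hEM fun e he => hle e he (hh he)
  have hA'' := comap_hyp hax' h.EU hEax'
  have heq : h.axis hg' ⊓ E = M ⊓ E := hA''.eq_of_le hA fun e he => ⟨hle e he.2 he.1, he.2⟩
  by_cases hMM : M = h.axis hg'
  · refine ⟨p * g * p⁻¹, fun x hx => ⟨fun hxM => ?_, fun hxM => ?_⟩⟩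
    · rw [hMM] at hxM; exact hxM.2
    · exact (hg' x hx).resolve_left fun hh => hxM (by rw [hMM]; exact ⟨hx, hh⟩)
  have h3 := third_hyp hM hax' hMM
  have hE3 : E ≤ third hM hax' := by
    intro e he
    refine ⟨h.EU he, ?_⟩
    have h4 : e ∈ h.axis hg' ⊓ E ↔ e ∈ M ⊓ E := by rw [heq]
    rw [mem_inf, mem_inf] at h4
    tauto
  have hn3 : n ∈ third hM hax' := ⟨h.nU, by simp [hnM, h.n_axis hg']⟩
  obtain ⟨r, hr, hr1⟩ := h.exists_transv h8 h3 hE3 hn3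
  refine ⟨p * g * p⁻¹ * r, fun x hx => ?_⟩
  rw [h.cm_prod hg' (h.tr_R h8 hr) hx]
  have h5 : x ∈ third hM hax' ↔ (x ∈ M ↔ x ∈ h.axis hg') := by
    rw [mem_third]; tauto
  have h6 : x ∉ h.axis hg' → cm (p * g * p⁻¹) x = n := fun hh =>
    (hg' x hx).resolve_left fun h7 => hh ⟨hx, h7⟩
  constructor
  · intro hxM
    by_cases hxa : x ∈ h.axis hg'
    · rw [(hr1 x hx).1 (h5.2 (by tauto)), hxa.2, one_mul]
    · rw [(hr1 x hx).2 (by rw [h5]; tauto), h6 hxa, h.nn]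
  · intro hxM
    by_cases hxa : x ∈ h.axis hg'
    · rw [(hr1 x hx).2 (by rw [h5]; tauto), hxa.2, mul_one]
    · rw [(hr1 x hx).1 (h5.2 (by tauto)), h6 hxa, one_mul]

/-- **(8)** the contradiction -/
theorem absurd [Finite X] (h : Red t n U E P R) (h8 : 8 ≤ Nat.card E) {x₀ u : X} (hn : x₀ * n = n * x₀)
    (ht : x₀ * t * x₀⁻¹ = t * u) (hu : u ∈ P) (huR : u ∉ R) : False := by
  have hE : ∃ c ∈ E, c ≠ 1 := by
    by_contra hcon
    push Not at hcon
    have h1 : E = ⊥ := by rw [eq_bot_iff]; intro x hx; exact mem_bot.2 (hcon x hx)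
    rw [h1, card_bot] at h8
    omega
  have hall : ∀ g, IsTr U n g → ∃ r ∈ R, g * r ∈ U := by
    intro g hg
    by_contra hcon
    exact h.not_full hE (h.full_of h8 hg hcon)
  apply huR
  apply h.cRE u hu
  intro s hs
  have hn' : x₀⁻¹ * n * x₀⁻¹⁻¹ = n := by
    rw [inv_inv]
    calc x₀⁻¹ * n * x₀ = x₀⁻¹ * (n * x₀) := by group
      _ = n := by rw [← hn]; group
  have htr : IsTr U n (x₀⁻¹ * s * x₀⁻¹⁻¹) := h.tr_conj h.norU (h.tr_R h8 hs) hn'
  obtain ⟨r, hr, hw⟩ := hall _ htr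
  rw [inv_inv] at hw
  set w := x₀⁻¹ * s * x₀ * r with hwdef
  have hw' : x₀ * w * x₀⁻¹ ∈ U := h.norU x₀ w hw
  set w' := x₀ * w * x₀⁻¹ with hw'def
  have hr2 : r⁻¹ = r := inv_eq_of_mul_eq_one_left (h.sqR r hr)
  -- `ρ = x₀ r x₀⁻¹ = w'⁻¹ s`
  have hrho : x₀ * r * x₀⁻¹ = w'⁻¹ * s := by
    have e : w' = s * (x₀ * r * x₀⁻¹) := by rw [hw'def, hwdef]; group
    have e2 : (x₀ * r * x₀⁻¹) * (x₀ * r * x₀⁻¹) = 1 := by
      calc (x₀ * r * x₀⁻¹) * (x₀ * r * x₀⁻¹) = x₀ * (r * r) * x₀⁻¹ := by group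
        _ = 1 := by rw [h.sqR r hr]; group
    have e3 : s * s = 1 := h.sqR s hs
    have e4 : w'⁻¹ * s = (x₀ * r * x₀⁻¹)⁻¹ * (s⁻¹ * s) := by rw [e]; group
    rw [e4]
    have e5 : (x₀ * r * x₀⁻¹)⁻¹ = x₀ * r * x₀⁻¹ := inv_eq_of_mul_eq_one_left e2
    rw [e5]; group
  have hcomm : (t * u) * (w'⁻¹ * s) = (w'⁻¹ * s) * (t * u) := by
    rw [← hrho, ← ht]
    have : r * t = t * r := h.Rt hr
    calc x₀ * t * x₀⁻¹ * (x₀ * r * x₀⁻¹) = x₀ * (t * r) * x₀⁻¹ := by group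
      _ = x₀ * (r * t) * x₀⁻¹ := by rw [this]
      _ = x₀ * r * x₀⁻¹ * (x₀ * t * x₀⁻¹) := by group
  have hst : s * t = t * s := h.Rt hs
  have hut : u * t = t * u := h.Pt u hu
  have key : u * s * u⁻¹ * s⁻¹ = (u * w'⁻¹ * u⁻¹)⁻¹ * (t⁻¹ * w'⁻¹ * t) := by
    have h1 : u * (w'⁻¹ * s) * u⁻¹ = (t⁻¹ * w'⁻¹ * t) * s := by
      calc u * (w'⁻¹ * s) * u⁻¹ = t⁻¹ * ((t * u) * (w'⁻¹ * s)) * u⁻¹ := by group
        _ = t⁻¹ * ((w'⁻¹ * s) * (t * u)) * u⁻¹ := by rw [hcomm]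
        _ = t⁻¹ * w'⁻¹ * (s * t) := by group
        _ = (t⁻¹ * w'⁻¹ * t) * s := by rw [hst]; group
    calc u * s * u⁻¹ * s⁻¹ = (u * w'⁻¹ * u⁻¹)⁻¹ * (u * (w'⁻¹ * s) * u⁻¹) * s⁻¹ := by group
      _ = (u * w'⁻¹ * u⁻¹)⁻¹ * ((t⁻¹ * w'⁻¹ * t) * s) * s⁻¹ := by rw [h1]
      _ = _ := by group
  apply h.UP
  · rw [key]
    refine U.mul_mem (U.inv_mem (h.norU u _ (U.inv_mem hw'))) ?_
    have := h.norU t⁻¹ _ (U.inv_mem hw')
    rwa [inv_inv] at this
  · exact P.mul_mem (P.mul_mem (P.mul_mem hu (h.RP hs)) (P.inv_mem hu)) (P.inv_mem (h.RP hs))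

end Red

end Cfsg.Agent.OddHalf.E2.Kill
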