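import Cfsg.Agent.OddHalf.E2.KillBase

/-!
# ODD half, D8, type (E2): step (7), `R` acts on `U` by transvections with centre `n` (helper458)
-/

set_option autoImplicit false

namespace Cfsg.Agent.OddHalf.E2.Kill

open Subgroup

variable {X : Type*} [Group X]

theorem IsHyp.mul_mem_iff {M U : Subgroup X} (h : IsHyp M U) {a b : X} (ha : a ∈ U) (hb : b ∈ U) :
    a * b ∈ M ↔ (a ∈ M ↔ b ∈ M) := by
  by_cases h1 : a ∈ M <;> by_cases h2 : b ∈ M
  · simp [h1, h2, M.mul_mem h1 h2]
  · simp only [h1, h2, iff_false, not_true_eq_false]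
    intro h3
    apply h2
    have : b = a⁻¹ * (a * b) := by group
    rw [this]; exact M.mul_mem (M.inv_mem h1) h3
  · simp only [h1, h2, iff_true, iff_false]
    intro h3
    apply h1
    have : a = a * b * b⁻¹ := by group
    rw [this]; exact M.mul_mem h3 (M.inv_mem h2)
  · simp [h1, h2, h.mul a ha b hb h1 h2]

theorem IsHyp.eq_of_le {M M' U : Subgroup X} (h : IsHyp M U) (h' : IsHyp M' U) (hle : M ≤ M') : M = M' := by
  apply le_antisymm hle
  intro a ha
  by_contra haM
  obtain ⟨b, hb, hbM⟩ := h'.ex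
  have h1 : b ∉ M := fun h2 => hbM (hle h2)
  have h2 : a * b ∈ M := h.mul a (h'.le ha) b hb haM h1
  apply hbM
  have : b = a⁻¹ * (a * b) := by group
  rw [this]; exact M'.mul_mem (M'.inv_mem ha) (hle h2)

/-- the third hyperplane -/
def third {M M' U : Subgroup X} (h : IsHyp M U) (h' : IsHyp M' U) : Subgroup X where
  carrier := {v | v ∈ U ∧ (v ∈ M ↔ v ∈ M')}
  one_mem' := ⟨U.one_mem, by simp [M.one_mem, M'.one_mem]⟩
  mul_mem' := by
    rintro a b ⟨ha, ha1⟩ ⟨hb, hb1⟩
    refine ⟨U.mul_mem ha hb, ?_⟩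
    rw [h.mul_mem_iff ha hb, h'.mul_mem_iff ha hb, ha1, hb1]
  inv_mem' := by
    rintro a ⟨ha, ha1⟩
    exact ⟨U.inv_mem ha, by rw [M.inv_mem_iff, M'.inv_mem_iff, ha1]⟩

theorem mem_third {M M' U : Subgroup X} (h : IsHyp M U) (h' : IsHyp M' U) (v : X) :
    v ∈ third h h' ↔ v ∈ U ∧ (v ∈ M ↔ v ∈ M') := Iff.rfl

theorem third_hyp {M M' U : Subgroup X} (h : IsHyp M U) (h' : IsHyp M' U) (hne : M ≠ M') :
    IsHyp (third h h') U := by
  refine ⟨fun v hv => hv.1, ?_, ?_⟩
  · by_contra hcon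
    push Not at hcon
    apply hne
    refine h.eq_of_le h' ?_
    intro v hv
    exact ((hcon v (h.le hv)).2).1 hv
  · intro a ha b hb h1 h2
    rw [mem_third] at h1 h2 ⊢
    refine ⟨U.mul_mem ha hb, ?_⟩
    rw [h.mul_mem_iff ha hb, h'.mul_mem_iff ha hb]
    tauto

theorem exists_notMem_two {M M' U : Subgroup X} (h : IsHyp M U) (h' : IsHyp M' U) (hne : M ≠ M') :
    ∃ a ∈ U, a ∉ M ∧ a ∉ M' := by
  have h1 : ∃ v ∈ M, v ∉ M' := by
    by_contra hcon
    push Not at hcon
    exact hne (h.eq_of_le h' hcon)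
  have h2 : ∃ v ∈ M', v ∉ M := by
    by_contra hcon
    push Not at hcon
    exact hne (h'.eq_of_le h hcon).symm
  obtain ⟨v, hv, hv'⟩ := h1
  obtain ⟨w, hw, hw'⟩ := h2
  refine ⟨v * w, U.mul_mem (h.le hv) (h'.le hw), ?_, ?_⟩
  · rw [h.mul_mem_iff (h.le hv) (h'.le hw)]; tauto
  · rw [h'.mul_mem_iff (h.le hv) (h'.le hw)]; tauto

namespace Red

variable {t n : X} {U E P R : Subgroup X}

/-- `τ(x) = [t, x]` -/
def tau (t x : X) : X := t * x * t⁻¹ * x⁻¹

/-- `[r, x]` -/
def cm (r x : X) : X := r * x * r⁻¹ * x⁻¹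

theorem tau_mem (h : Red t n U E P R) {x : X} (hx : x ∈ U) : tau t x ∈ E := h.comU x hx

theorem inv_E (h : Red t n U E P R) {a : X} (ha : a ∈ E) : a⁻¹ = a := h.inv_U (h.EU ha)

theorem nn (h : Red t n U E P R) : n * n = 1 := h.sqU n h.nU

theorem Rt (h : Red t n U E P R) {r : X} (hr : r ∈ R) : r * t = t * r := h.Pt r (h.RP hr)

theorem Pn (h : Red t n U E P R) {p : X} (hp : p ∈ P) : p * n = n * p := h.cen p (h.Pt p hp)

theorem Pn' (h : Red t n U E P R) {p : X} (hp : p ∈ P) : p * n * p⁻¹ = n := by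
  rw [h.Pn hp]; group

theorem tau_mul (h : Red t n U E P R) {x y : X} (hx : x ∈ U) (hy : y ∈ U) :
    tau t (x * y) = tau t x * tau t y := by
  have h1 : tau t y ∈ U := h.EU (h.tau_mem hy)
  have h2 : x⁻¹ ∈ U := U.inv_mem hx
  calc tau t (x * y) = t * x * t⁻¹ * (tau t y * x⁻¹) := by unfold tau; group
    _ = t * x * t⁻¹ * (x⁻¹ * tau t y) := by rw [h.abU _ h1 _ h2]
    _ = tau t x * tau t y := by unfold tau; group

theorem tau_conj (h : Red t n U E P R) {p : X} (hp : p ∈ P) (x : X) :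
    tau t (p * x * p⁻¹) = p * tau t x * p⁻¹ := by
  have h1 : p * t * p⁻¹ = t := by rw [h.Pt p hp]; group
  calc tau t (p * x * p⁻¹) = t * (p * x * p⁻¹) * t⁻¹ * (p * x * p⁻¹)⁻¹ := rfl
    _ = (p * t * p⁻¹) * (p * x * p⁻¹) * (p * t * p⁻¹)⁻¹ * (p * x * p⁻¹)⁻¹ := by rw [h1]
    _ = p * tau t x * p⁻¹ := by unfold tau; group

theorem cm_U (h : Red t n U E P R) (r : X) {x : X} (hx : x ∈ U) : cm r x ∈ U :=
  U.mul_mem (h.norU r x hx) (U.inv_mem hx)

theorem cm_mul (h : Red t n U E P R) (r : X) {x y : X} (hx : x ∈ U) (hy : y ∈ U) :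
    cm r (x * y) = cm r x * cm r y := by
  have h1 := h.cm_U r hy
  have h2 : x⁻¹ ∈ U := U.inv_mem hx
  calc cm r (x * y) = r * x * r⁻¹ * (cm r y * x⁻¹) := by unfold cm; group
    _ = r * x * r⁻¹ * (x⁻¹ * cm r y) := by rw [h.abU _ h1 _ h2]
    _ = cm r x * cm r y := by unfold cm; group

theorem cm_conj (p r x : X) : cm (p * r * p⁻¹) (p * x * p⁻¹) = p * cm r x * p⁻¹ := by
  unfold cm; group

theorem cm_mem (h : Red t n U E P R) {r x : X} (hr : r ∈ R) (hx : x ∈ U) : cm r x ∈ E ∨ n * cm r x ∈ E := by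
  apply h.fixU _ (h.cm_U r hx)
  have he := h.tau_mem hx
  have hc1 := h.Rt hr
  have hre : r * tau t x = tau t x * r := h.abR r hr _ (h.ER he)
  have h0 : t * x * t⁻¹ = tau t x * x := by unfold tau; group
  have h1 : t * cm r x * t⁻¹ = cm r x := by
    have hc2 : t * r * t⁻¹ = r := by rw [← hc1]; group
    calc t * cm r x * t⁻¹ = (t * r * t⁻¹) * (t * x * t⁻¹) * (t * r * t⁻¹)⁻¹ * (t * x * t⁻¹)⁻¹ := by
          unfold cm; group
      _ = r * (tau t x * x) * r⁻¹ * (tau t x * x)⁻¹ := by rw [hc2, h0]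
      _ = (r * tau t x) * x * r⁻¹ * x⁻¹ * (tau t x)⁻¹ := by group
      _ = tau t x * (r * x * r⁻¹ * x⁻¹ * (tau t x)⁻¹) := by rw [hre]; group
      _ = tau t x * (cm r x * (tau t x)⁻¹) := by unfold cm; group
      _ = cm r x := by rw [h.abU _ (h.cm_U r hx) _ (U.inv_mem (h.EU he))]; group
  calc cm r x * t = (t * cm r x * t⁻¹) * t := by rw [h1]
    _ = t * cm r x := by group

theorem cm_fix (h : Red t n U E P R) {r x : X} (hr : r ∈ R) (hx : x ∈ U) (hxt : x * t = t * x) : cm r x = 1 := by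
  have hrn : r * n = n * r := h.Pn (h.RP hr)
  rcases h.fixU x hx hxt with h1 | h1
  · unfold cm; rw [h.abR r hr x (h.ER h1)]; group
  · have h2 := h.abR r hr _ (h.ER h1)
    have h3 : r * x = x * r := by
      have e : x = n * (n * x) := by rw [← mul_assoc, h.nn, one_mul]
      calc r * x = r * n * (n * x) := by rw [mul_assoc, ← e]
        _ = n * (r * (n * x)) := by rw [hrn]; group
        _ = n * (n * x * r) := by rw [h2]
        _ = n * n * x * r := by group
        _ = x * r := by rw [h.nn, one_mul]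
    unfold cm; rw [h3]; group

theorem tau_eq_one (_h : Red t n U E P R) {x : X} (hx : tau t x = 1) : x * t = t * x := by
  have : t * x * t⁻¹ = x := by
    have e : t * x * t⁻¹ = tau t x * x := by unfold tau; group
    rw [e, hx, one_mul]
  calc x * t = t * x * t⁻¹ * t := by rw [this]
    _ = t * x := by group

theorem cm_tau (h : Red t n U E P R) {r x y : X} (hr : r ∈ R) (hx : x ∈ U) (hy : y ∈ U)
    (hxy : tau t x = tau t y) : cm r x = cm r y := by
  have hw : x⁻¹ * y ∈ U := U.mul_mem (U.inv_mem hx) hy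
  have e : y = x * (x⁻¹ * y) := by group
  have h1 : tau t (x⁻¹ * y) = 1 := by
    have h2 : tau t y = tau t x * tau t (x⁻¹ * y) := by
      rw [← h.tau_mul hx hw]; congr 1
    rw [hxy] at h2
    exact (mul_eq_left.1 h2.symm)
  have h2 := h.cm_fix hr hw (h.tau_eq_one h1)
  rw [e, h.cm_mul r hx hw, h2, mul_one]

open Classical in
/-- the `E`-part of `[r, x]` -/
noncomputable def D (n : X) (E : Subgroup X) (r x : X) : X := if cm r x ∈ E then cm r x else n * cm r x

theorem D_mem (h : Red t n U E P R) {r x : X} (hr : r ∈ R) (hx : x ∈ U) : D n E r x ∈ E := by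
  unfold D
  split_ifs with h1
  · exact h1
  · exact (h.cm_mem hr hx).resolve_left h1

theorem D_spec (h : Red t n U E P R) (r x : X) : cm r x = D n E r x ∨ cm r x = n * D n E r x := by
  unfold D
  split_ifs with h1
  · exact Or.inl rfl
  · right; rw [← mul_assoc, h.nn, one_mul]

theorem n_mul_notMem (h : Red t n U E P R) {d : X} (hd : d ∈ E) : n * d ∉ E := by
  intro h1
  apply h.nE
  have : n = n * d * d⁻¹ := by group
  rw [this]; exact E.mul_mem h1 (E.inv_mem hd)

theorem D_eq (h : Red t n U E P R) {r x d : X} (hd : d ∈ E) (hc : cm r x = d ∨ cm r x = n * d) : D n E r x = d := by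
  unfold D
  rcases hc with hc | hc
  · rw [if_pos (by rw [hc]; exact hd), hc]
  · rw [if_neg (by rw [hc]; exact h.n_mul_notMem hd), hc, ← mul_assoc, h.nn, one_mul]

theorem D_tau (h : Red t n U E P R) {r x y : X} (hr : r ∈ R) (hx : x ∈ U) (hy : y ∈ U)
    (hxy : tau t x = tau t y) : D n E r x = D n E r y := by
  unfold D; rw [h.cm_tau hr hx hy hxy]

theorem D_mul (h : Red t n U E P R) {r x y : X} (hr : r ∈ R) (hx : x ∈ U) (hy : y ∈ U) :
    D n E r (x * y) = D n E r x * D n E r y := by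
  have hdx := h.D_mem hr hx
  have hdy := h.D_mem hr hy
  have hnx : D n E r x * n = n * D n E r x := h.abU _ (h.EU hdx) _ h.nU
  apply h.D_eq (E.mul_mem hdx hdy)
  rw [h.cm_mul r hx hy]
  rcases h.D_spec r x with h1 | h1 <;> rcases h.D_spec r y with h2 | h2
  · left; rw [← h1, ← h2]
  · right
    calc cm r x * cm r y = D n E r x * (n * D n E r y) := by rw [← h1, ← h2]
      _ = (D n E r x * n) * D n E r y := by group
      _ = n * (D n E r x * D n E r y) := by rw [hnx]; group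
  · right
    calc cm r x * cm r y = n * D n E r x * cm r y := by rw [← h1]
      _ = n * D n E r x * D n E r y := by rw [← h2]
      _ = n * (D n E r x * D n E r y) := by group
  · left
    calc cm r x * cm r y = n * D n E r x * (n * D n E r y) := by rw [← h1, ← h2]
      _ = n * (D n E r x * n) * D n E r y := by group
      _ = (n * n) * D n E r x * D n E r y := by rw [hnx]; group
      _ = D n E r x * D n E r y := by rw [h.nn, one_mul]

theorem D_conj (h : Red t n U E P R) {p r x : X} (hp : p ∈ P) (hr : r ∈ R) (hx : x ∈ U) :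
    D n E (p * r * p⁻¹) (p * x * p⁻¹) = p * D n E r x * p⁻¹ := by
  apply h.D_eq (h.norE p hp _ (h.D_mem hr hx))
  rw [cm_conj]
  rcases h.D_spec r x with h1 | h1
  · left; rw [← h1]
  · right
    calc p * cm r x * p⁻¹ = p * (n * D n E r x) * p⁻¹ := by rw [← h1]
      _ = (p * n * p⁻¹) * (p * D n E r x * p⁻¹) := by group
      _ = n * (p * D n E r x * p⁻¹) := by rw [h.Pn' hp]

theorem R_comm_cm (h : Red t n U E P R) {r s x : X} (hr : r ∈ R) (hs : s ∈ R) (hx : x ∈ U) :
    r * cm s x = cm s x * r := by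
  have hrn : r * n = n * r := h.Pn (h.RP hr)
  have hd := h.abR r hr _ (h.ER (h.D_mem hs hx))
  rcases h.D_spec s x with h1 | h1
  · rw [h1]; exact hd
  · rw [h1]
    calc r * (n * D n E s x) = (r * n) * D n E s x := by group
      _ = n * (r * D n E s x) := by rw [hrn]; group
      _ = n * D n E s x * r := by rw [hd]; group

theorem cm_rs (h : Red t n U E P R) {r s x : X} (hr : r ∈ R) (hs : s ∈ R) (hx : x ∈ U) :
    cm (r * s) x = cm r x * cm s x := by
  have h1 := h.R_comm_cm hr hs hx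
  calc cm (r * s) x = r * cm s x * x * r⁻¹ * x⁻¹ := by unfold cm; group
    _ = cm s x * r * x * r⁻¹ * x⁻¹ := by rw [h1]
    _ = cm s x * cm r x := by unfold cm; group
    _ = cm r x * cm s x := h.abU _ (h.cm_U s hx) _ (h.cm_U r hx)

theorem cm_E (h : Red t n U E P R) {r x : X} (hr : r ∈ E) (hx : x ∈ U) : cm r x = 1 := by
  unfold cm; rw [h.abU r (h.EU hr) x hx]; group

theorem D_rs (h : Red t n U E P R) {r s x : X} (hr : r ∈ R) (hs : s ∈ R) (hx : x ∈ U) :
    D n E (r * s) x = D n E r x * D n E s x := by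
  have hdx := h.D_mem hr hx
  have hdy := h.D_mem hs hx
  have hnx : D n E r x * n = n * D n E r x := h.abU _ (h.EU hdx) _ h.nU
  apply h.D_eq (E.mul_mem hdx hdy)
  rw [h.cm_rs hr hs hx]
  rcases h.D_spec r x with h1 | h1 <;> rcases h.D_spec s x with h2 | h2
  · left; rw [← h1, ← h2]
  · right
    calc cm r x * cm s x = D n E r x * (n * D n E s x) := by rw [← h1, ← h2]
      _ = (D n E r x * n) * D n E s x := by group
      _ = n * (D n E r x * D n E s x) := by rw [hnx]; group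
  · right
    calc cm r x * cm s x = n * D n E r x * cm s x := by rw [← h1]
      _ = n * D n E r x * D n E s x := by rw [← h2]
      _ = n * (D n E r x * D n E s x) := by group
  · left
    calc cm r x * cm s x = n * D n E r x * (n * D n E s x) := by rw [← h1, ← h2]
      _ = n * (D n E r x * n) * D n E s x := by group
      _ = (n * n) * D n E r x * D n E s x := by rw [hnx]; group
      _ = D n E r x * D n E s x := by rw [h.nn, one_mul]

theorem D_E (h : Red t n U E P R) {r x : X} (hr : r ∈ E) (hx : x ∈ U) : D n E r x = 1 :=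
  h.D_eq E.one_mem (Or.inl (h.cm_E hr hx))

/-- the hyperplane of `E` attached to `r` -/
def V (h : Red t n U E P R) {r : X} (hr : r ∈ R) : Subgroup X where
  carrier := {v | v ∈ E ∧ ∀ x ∈ U, tau t x = v → cm r x ∈ E}
  one_mem' := ⟨E.one_mem, fun x hx hx1 => by rw [h.cm_fix hr hx (h.tau_eq_one hx1)]; exact E.one_mem⟩
  mul_mem' := by
    rintro v w ⟨hv, hv1⟩ ⟨hw, hw1⟩
    refine ⟨E.mul_mem hv hw, ?_⟩
    intro x hx hxt
    obtain ⟨y, hy, hyv⟩ := h.surj v hv
    have hyx : y⁻¹ * x ∈ U := U.mul_mem (U.inv_mem hy) hx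
    have e : x = y * (y⁻¹ * x) := by group
    have h1 : tau t (y⁻¹ * x) = w := by
      have h2 : tau t x = tau t y * tau t (y⁻¹ * x) := by
        rw [← h.tau_mul hy hyx]; congr 1
      rw [hxt, show tau t y = v from hyv] at h2
      exact (mul_left_cancel h2).symm
    rw [e, h.cm_mul r hy hyx]
    exact E.mul_mem (hv1 y hy hyv) (hw1 _ hyx h1)
  inv_mem' := by
    rintro v ⟨hv, hv1⟩
    rw [h.inv_E hv]
    exact ⟨hv, hv1⟩

theorem mem_V (h : Red t n U E P R) {r : X} (hr : r ∈ R) {x : X} (hx : x ∈ U) :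
    tau t x ∈ h.V hr ↔ cm r x ∈ E := by
  constructor
  · intro h1; exact h1.2 x hx rfl
  · intro h1
    refine ⟨h.tau_mem hx, fun y hy hyx => ?_⟩
    rw [h.cm_tau hr hy hx hyx]; exact h1

theorem V_hyp (h : Red t n U E P R) {r : X} (hr : r ∈ R) (hrE : r ∉ E) : IsHyp (h.V hr) E := by
  refine ⟨fun v hv => hv.1, ?_, ?_⟩
  · by_contra hcon
    push Not at hcon
    apply hrE
    apply h.nd r hr
    intro a ha
    exact (h.mem_V hr ha).1 (hcon _ (h.tau_mem ha))
  · intro v hv w hw hv1 hw1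
    obtain ⟨x, hx, rfl⟩ := h.surj v hv
    obtain ⟨y, hy, rfl⟩ := h.surj w hw
    have hx1 : cm r x ∉ E := fun h1 => hv1 ((h.mem_V hr hx).2 h1)
    have hy1 : cm r y ∉ E := fun h1 => hw1 ((h.mem_V hr hy).2 h1)
    have hx2 := (h.cm_mem hr hx).resolve_left hx1
    have hy2 := (h.cm_mem hr hy).resolve_left hy1
    have h1 : tau t (x * y) ∈ h.V hr := by
      rw [h.mem_V hr (U.mul_mem hx hy), h.cm_mul r hx hy]
      have h2 : cm r x * cm r y = (n * cm r x) * (n * cm r y) := by
        rw [h.abU n h.nU _ (h.cm_U r hx)]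
        calc cm r x * cm r y = cm r x * (n * n) * cm r y := by rw [h.nn, mul_one]
          _ = cm r x * n * (n * cm r y) := by group
      rw [h2]; exact E.mul_mem hx2 hy2
    rw [h.tau_mul hx hy] at h1
    exact h1

theorem V_conj (h : Red t n U E P R) {p r : X} (hp : p ∈ P) (hr : r ∈ R) {v : X} (hv : v ∈ h.V hr) :
    p * v * p⁻¹ ∈ h.V (h.norR p hp r hr) := by
  obtain ⟨x, hx, rfl⟩ := h.surj v hv.1
  have h1 : p * (t * x * t⁻¹ * x⁻¹) * p⁻¹ = tau t (p * x * p⁻¹) := (h.tau_conj hp x).symm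
  rw [h1, h.mem_V _ (h.norU p x hx), cm_conj]
  exact h.norE p hp _ ((h.mem_V hr hx).1 hv)

theorem V_inj (h : Red t n U E P R) {r s : X} (hr : r ∈ R) (hs : s ∈ R) (hrs : h.V hr = h.V hs) : r * s ∈ E := by
  apply h.nd _ (R.mul_mem hr hs)
  intro a ha
  have h1 : r * s * a * (r * s)⁻¹ * a⁻¹ = cm (r * s) a := rfl
  rw [h1, h.cm_rs hr hs ha]
  have h2 := h.mem_V hr ha
  have h3 := h.mem_V hs ha
  rw [hrs] at h2
  by_cases h4 : cm r a ∈ E
  · exact E.mul_mem h4 (h3.1 (h2.2 h4))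
  · have h5 : cm s a ∉ E := fun h6 => h4 (h2.1 (h3.2 h6))
    have hx2 := (h.cm_mem hr ha).resolve_left h4
    have hy2 := (h.cm_mem hs ha).resolve_left h5
    have h2 : cm r a * cm s a = (n * cm r a) * (n * cm s a) := by
      rw [h.abU n h.nU _ (h.cm_U r ha)]
      calc cm r a * cm s a = cm r a * (n * n) * cm s a := by rw [h.nn, mul_one]
        _ = cm r a * n * (n * cm s a) := by group
    rw [h2]; exact E.mul_mem hx2 hy2

theorem conj_notMem_E (h : Red t n U E P R) {p r : X} (hp : p ∈ P) (hr : r ∉ E) : p * r * p⁻¹ ∉ E := by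
  intro h1
  apply hr
  have h2 := h.norE p⁻¹ (P.inv_mem hp) _ h1
  have e : p⁻¹ * (p * r * p⁻¹) * p⁻¹⁻¹ = r := by group
  rwa [e] at h2

/-- if `p` maps `V_r` into `V_s` then `r^p ∈ s E` -/
theorem conj_of_V (h : Red t n U E P R) {p r s : X} (hp : p ∈ P) (hr : r ∈ R) (hrE : r ∉ E) (hs : s ∈ R)
    (hsE : s ∉ E) (hV : ∀ v ∈ h.V hr, p * v * p⁻¹ ∈ h.V hs) : p * r * p⁻¹ * s ∈ E := by
  have h1 := h.V_hyp (h.norR p hp r hr) (h.conj_notMem_E hp hrE)
  have h2 := h.V_hyp hs hsE
  apply h.V_inj (h.norR p hp r hr) hs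
  apply h1.eq_of_le h2
  intro v hv
  have h3 := h.V_conj (P.inv_mem hp) (h.norR p hp r hr) hv
  have h4 : ∀ w, w ∈ h.V (h.norR p⁻¹ (P.inv_mem hp) _ (h.norR p hp r hr)) → w ∈ h.V hr := by
    intro w hw
    refine ⟨hw.1, fun x hx hxw => ?_⟩
    have := hw.2 x hx hxw
    have e : p⁻¹ * (p * r * p⁻¹) * p⁻¹⁻¹ = r := by group
    rwa [e] at this
  have h5 := hV _ (h4 _ h3)
  have e : p * (p⁻¹ * v * p⁻¹⁻¹) * p⁻¹ = v := by group
  rwa [e] at h5

/-- `P` is transitive on `(R / E)^#` -/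
theorem trans (h : Red t n U E P R) {r s : X} (hr : r ∈ R) (hrE : r ∉ E) (hs : s ∈ R) (hsE : s ∉ E) :
    ∃ p ∈ P, p * r * p⁻¹ * s ∈ E := by
  by_cases hne : h.V hr = h.V hs
  · refine ⟨1, P.one_mem, ?_⟩
    have := h.V_inj hr hs hne
    simpa using this
  have h1 := h.V_hyp hr hrE
  have h2 := h.V_hyp hs hsE
  obtain ⟨a, ha, ha1, ha2⟩ := exists_notMem_two h1 h2 hne
  obtain ⟨p, hp, p1, p2⟩ := h.tv _ (third_hyp h1 h2 hne) a ⟨ha, by tauto⟩
  refine ⟨p, hp, h.conj_of_V hp hr hrE hs hsE ?_⟩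
  intro v hv
  by_cases hv2 : v ∈ h.V hs
  · rw [p1 v ⟨h1.le hv, by tauto⟩]; exact hv2
  · rw [p2 v (h1.le hv) (by rw [mem_third]; tauto)]
    exact h2.mul v (h1.le hv) a ha hv2 ha2

theorem D_stab (h : Red t n U E P R) {p r x : X} (hp : p ∈ P) (hr : r ∈ R) (hrE : r ∉ E) (hx : x ∈ U)
    (hV : ∀ v ∈ h.V hr, p * v * p⁻¹ ∈ h.V hr) : D n E r (p * x * p⁻¹) = p * D n E r x * p⁻¹ := by
  have h1 := h.conj_of_V hp hr hrE hr hrE hV
  rw [← h.D_conj hp hr hx]
  have h2 : p * r * p⁻¹ = (p * r * p⁻¹ * r) * r := by rw [mul_assoc _ r r, h.sqR r hr, mul_one]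
  have hx' := h.norU p x hx
  rw [h2, h.D_rs (h.ER h1) hr hx', h.D_E h1 hx', one_mul]

/-- each `r ∈ R - E` acts as a transvection with centre `n`, or as `t` times such a transvection -/
theorem D_dichotomy [Finite X] (h : Red t n U E P R) (h8 : 8 ≤ Nat.card E) {r : X} (hr : r ∈ R) (hrE : r ∉ E) :
    (∀ x ∈ U, D n E r x = 1) ∨ ∀ x ∈ U, D n E r x = tau t x := by
  classical
  have hV := h.V_hyp hr hrE
  set V := h.V hr with hVdef
  have VU : V ≤ U := hV.le.trans h.EU
  -- `V` has at least four elements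
  have big : ∀ w, ∃ a ∈ V, a ≠ 1 ∧ a ≠ w := by
    intro w
    by_contra hcon
    push Not at hcon
    obtain ⟨b, hb, hbV⟩ := hV.ex
    have h1 : ∀ x ∈ E, x = 1 ∨ x = w ∨ x = b ∨ x = b * w := by
      intro x hx
      by_cases hxV : x ∈ V
      · by_cases hx1 : x = 1
        · exact Or.inl hx1
        · exact Or.inr (Or.inl (hcon x hxV hx1))
      · have h2 : b * x ∈ V := hV.mul b hb x hx hbV hxV
        have h3 : x = b * (b * x) := by rw [← mul_assoc, h.sqU b (h.EU hb), one_mul]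
        by_cases hx1 : b * x = 1
        · right; right; left
          rw [hx1, mul_one] at h3; exact h3
        · right; right; right
          rw [← hcon _ h2 hx1]; exact h3
    have h4 : (E : Set X) ⊆ ({1, w, b, b * w} : Finset X) := by
      intro x hx
      have := h1 x hx
      simpa using this
    have h5 : Nat.card E ≤ 4 := by
      have h6 := Set.ncard_le_ncard h4 (Finset.finite_toSet _)
      rw [Set.ncard_coe_finset] at h6
      have h7 : ({1, w, b, b * w} : Finset X).card ≤ 4 := Finset.card_le_four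
      have h8 : (E : Set X).ncard = Nat.card E := rfl
      omega
    omega
  -- transvections with axis `V`
  have tvV : ∀ a ∈ V, ∃ p ∈ P, (∀ v ∈ V, p * v * p⁻¹ = v) ∧ (∀ v ∈ E, v ∉ V → p * v * p⁻¹ = v * a) ∧
      ∀ v ∈ V, p * v * p⁻¹ ∈ V := by
    intro a ha
    obtain ⟨p, hp, p1, p2⟩ := h.tv V hV a ha
    exact ⟨p, hp, p1, p2, fun v hv => by rw [p1 v hv]; exact hv⟩
  -- (i)
  have s1 : ∀ x ∈ U, tau t x ∈ V → D n E r x ∈ V := by
    intro x hx hxV
    by_contra hD
    obtain ⟨a, ha, ha1, -⟩ := big 1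
    obtain ⟨p, hp, p1, p2, p3⟩ := tvV a ha
    have h1 := h.D_stab hp hr hrE hx p3
    have h2 : tau t (p * x * p⁻¹) = tau t x := by rw [h.tau_conj hp, p1 _ hxV]
    rw [h.D_tau hr (h.norU p x hx) hx h2, p2 _ (h.D_mem hr hx) hD] at h1
    exact ha1 (by simpa using h1.symm)
  -- (ii)
  have s2 : ∀ x ∈ U, tau t x ∉ V → ∀ y ∈ U, tau t y ∈ V →
      D n E r x * D n E r y = if D n E r x ∈ V then D n E r x else D n E r x * tau t y := by
    intro x hx hxV y hy hyV
    obtain ⟨p, hp, p1, p2, p3⟩ := tvV _ hyV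
    have h1 := h.D_stab hp hr hrE hx p3
    have h2 : tau t (p * x * p⁻¹) = tau t (x * y) := by
      rw [h.tau_conj hp, p2 _ (h.tau_mem hx) hxV, h.tau_mul hx hy]
    rw [h.D_tau hr (h.norU p x hx) (U.mul_mem hx hy) h2, h.D_mul hr hx hy] at h1
    rw [h1]
    split_ifs with h3
    · exact p1 _ h3
    · exact p2 _ (h.D_mem hr hx) h3
  obtain ⟨v0, hv0, hv0V⟩ := hV.ex
  obtain ⟨x0, hx0, hx0v⟩ := h.surj v0 hv0
  have hx0V : tau t x0 ∉ V := by
    have : tau t x0 = v0 := hx0v
    rw [this]; exact hv0V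
  -- auxiliary: move a nontrivial vector `w` of `V`
  have mv : ∀ w ∈ V, w ≠ 1 → ∃ p ∈ P, (∀ v ∈ V, p * v * p⁻¹ ∈ V) ∧ p * w * p⁻¹ ≠ w := by
    intro w hw hw1
    obtain ⟨a, ha, ha1, haw⟩ := big w
    have h2 : w ∉ zpowers a := by
      intro hh
      obtain ⟨k, hk⟩ := mem_zpowers_iff.1 hh
      have hc2 : a ^ (2 : ℤ) = 1 := by
        have := h.sqU a (VU ha)
        rw [zpow_ofNat, pow_two]; exact this
      rcases Int.even_or_odd' k with ⟨j, rfl | rfl⟩
      · rw [zpow_mul, hc2, one_zpow] at hk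
        exact hw1 hk.symm
      · rw [zpow_add, zpow_mul, hc2, one_zpow, one_mul, zpow_one] at hk
        exact haw hk
    obtain ⟨M, hM, hMa, hMw⟩ := exists_hyp (U := E) (fun a ha b hb => h.abU a (h.EU ha) b (h.EU hb))
      (fun a ha => h.sqU a (h.EU ha)) ((zpowers_le).2 (hV.le ha)) (hV.le hw) h2
    obtain ⟨p, hp, p1, p2⟩ := h.tv M hM a (hMa (mem_zpowers a))
    refine ⟨p, hp, ?_, ?_⟩
    · intro v hv
      by_cases hvM : v ∈ M
      · rw [p1 v hvM]; exact hv
      · rw [p2 v (hV.le hv) hvM]; exact V.mul_mem hv ha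
    · rw [p2 w (hV.le hw) hMw]
      intro hh
      exact ha1 (by simpa using hh)
  have tauV : ∀ p ∈ P, (∀ v ∈ V, p * v * p⁻¹ ∈ V) → ∀ x ∈ U, tau t x ∉ V → tau t (p * x * p⁻¹) ∉ V := by
    intro p hp hpV x hx hxV hcon
    have h1 := h.conj_of_V hp hr hrE hr hrE hpV
    -- `V` is also stable under `p⁻¹`
    have h2 : h.V (h.norR p hp r hr) = V := by
      apply (h.V_hyp (h.norR p hp r hr) (h.conj_notMem_E hp hrE)).eq_of_le hV
      intro v hv
      refine ⟨hv.1, fun y hy hyv => ?_⟩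
      have h3 := hv.2 y hy hyv
      have h4 : cm (p * r * p⁻¹) y = cm r y := by
        have e : p * r * p⁻¹ = (p * r * p⁻¹ * r) * r := by rw [mul_assoc _ r r, h.sqR r hr, mul_one]
        rw [e, h.cm_rs (h.ER h1) hr hy, h.cm_E h1 hy, one_mul]
      rwa [h4] at h3
    rw [← h2, h.mem_V _ (h.norU p x hx), cm_conj] at hcon
    apply hxV
    rw [h.mem_V hr hx]
    have h3 := h.norE p⁻¹ (P.inv_mem hp) _ hcon
    have e : p⁻¹ * (p * cm r x * p⁻¹) * p⁻¹⁻¹ = cm r x := by group
    rwa [e] at h3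
  have abE : ∀ a ∈ E, ∀ b ∈ E, a * b = b * a := fun a ha b hb => h.abU a (h.EU ha) b (h.EU hb)
  have sqE : ∀ a ∈ E, a * a = 1 := fun a ha => h.sqU a (h.EU ha)
  by_cases hA : D n E r x0 ∈ V
  · -- case A
    left
    have a1 : ∀ y ∈ U, tau t y ∈ V → D n E r y = 1 := by
      intro y hy hyV
      have := s2 x0 hx0 hx0V y hy hyV
      rw [if_pos hA] at this
      exact mul_eq_left.1 this
    have a2 : ∀ x ∈ U, tau t x ∉ V → D n E r x = D n E r x0 := by
      intro x hx hxV
      have h1 : tau t (x * x0) ∈ V := by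
        rw [h.tau_mul hx hx0]; exact hV.mul _ (h.tau_mem hx) _ (h.tau_mem hx0) hxV hx0V
      have h2 := a1 _ (U.mul_mem hx hx0) h1
      rw [h.D_mul hr hx hx0] at h2
      calc D n E r x = D n E r x * (D n E r x0 * D n E r x0) := by rw [sqE _ (h.D_mem hr hx0), mul_one]
        _ = (D n E r x * D n E r x0) * D n E r x0 := by group
        _ = D n E r x0 := by rw [h2, one_mul]
    have a3 : D n E r x0 = 1 := by
      by_contra hw
      obtain ⟨p, hp, p1, p2⟩ := mv _ hA hw
      apply p2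
      rw [← h.D_stab hp hr hrE hx0 p1]
      exact a2 _ (h.norU p x0 hx0) (tauV p hp p1 x0 hx0 hx0V)
    intro x hx
    by_cases hxV : tau t x ∈ V
    · exact a1 x hx hxV
    · rw [a2 x hx hxV, a3]
  · -- case B
    right
    have a1 : ∀ y ∈ U, tau t y ∈ V → D n E r y = tau t y := by
      intro y hy hyV
      have := s2 x0 hx0 hx0V y hy hyV
      rw [if_neg hA] at this
      exact mul_left_cancel this
    have a2 : ∀ x ∈ U, tau t x ∉ V → D n E r x * tau t x = D n E r x0 * tau t x0 := by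
      intro x hx hxV
      have h1 : tau t (x * x0) ∈ V := by
        rw [h.tau_mul hx hx0]; exact hV.mul _ (h.tau_mem hx) _ (h.tau_mem hx0) hxV hx0V
      have h2 := a1 _ (U.mul_mem hx hx0) h1
      rw [h.D_mul hr hx hx0, h.tau_mul hx hx0] at h2
      have hd := h.D_mem hr hx
      have hd0 := h.D_mem hr hx0
      have ht := h.tau_mem hx
      have ht0 := h.tau_mem hx0
      calc D n E r x * tau t x = D n E r x * (D n E r x0 * D n E r x0) * tau t x := by
            rw [sqE _ hd0, mul_one]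
        _ = (D n E r x * D n E r x0) * (D n E r x0 * tau t x) := by group
        _ = (tau t x * tau t x0) * (D n E r x0 * tau t x) := by rw [h2]
        _ = (tau t x * tau t x0) * (tau t x * D n E r x0) := by rw [abE _ hd0 _ ht]
        _ = tau t x * (tau t x0 * tau t x) * D n E r x0 := by group
        _ = tau t x * (tau t x * tau t x0) * D n E r x0 := by rw [abE _ ht0 _ ht]
        _ = (tau t x * tau t x) * (tau t x0 * D n E r x0) := by group
        _ = D n E r x0 * tau t x0 := by rw [sqE _ ht, one_mul, abE _ ht0 _ hd0]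
    have hwV : D n E r x0 * tau t x0 ∈ V :=
      hV.mul _ (h.D_mem hr hx0) _ (h.tau_mem hx0) hA hx0V
    have a3 : D n E r x0 * tau t x0 = 1 := by
      by_contra hw
      obtain ⟨p, hp, p1, p2⟩ := mv _ hwV hw
      apply p2
      have h1 := a2 _ (h.norU p x0 hx0) (tauV p hp p1 x0 hx0 hx0V)
      rw [h.D_stab hp hr hrE hx0 p1, h.tau_conj hp] at h1
      calc p * (D n E r x0 * tau t x0) * p⁻¹ = p * D n E r x0 * p⁻¹ * (p * tau t x0 * p⁻¹) := by group
        _ = D n E r x0 * tau t x0 := h1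
    intro x hx
    by_cases hxV : tau t x ∈ V
    · exact a1 x hx hxV
    · have h1 := a2 x hx hxV
      rw [a3] at h1
      have h2 := eq_inv_of_mul_eq_one_left h1
      rw [h2, h.inv_E (h.tau_mem hx)]

/-- **(7)** `R` acts on `U` by transvections with centre `n` -/
theorem R_transv [Finite X] (h : Red t n U E P R) (h8 : 8 ≤ Nat.card E) {r : X} (hr : r ∈ R) {x : X} (hx : x ∈ U) :
    cm r x = 1 ∨ cm r x = n := by
  have main : ∀ r ∈ R, r ∉ E → ∀ x ∈ U, D n E r x = 1 := by
    intro r hr hrE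
    rcases h.D_dichotomy h8 hr hrE with h1 | h1
    · exact h1
    exfalso
    have hV := h.V_hyp hr hrE
    obtain ⟨a, ha, haV⟩ := hV.ex
    -- `V` is not trivial
    have big : ∃ v ∈ h.V hr, v ≠ 1 := by
      by_contra hcon
      push Not at hcon
      classical
      have h2 : (E : Set X) ⊆ ({1, a} : Finset X) := by
        intro x hx
        have : x = 1 ∨ x = a := by
          by_cases hxV : x ∈ h.V hr
          · left; exact hcon x hxV
          · right
            have h3 := hcon _ (hV.mul x hx a ha hxV haV)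
            have h4 := eq_inv_of_mul_eq_one_left h3
            rw [h4, h.inv_E ha]
        simpa using this
      have h3 := Set.ncard_le_ncard h2 (Finset.finite_toSet _)
      rw [Set.ncard_coe_finset] at h3
      have h5 : ({1, a} : Finset X).card ≤ 2 := Finset.card_le_two
      have h4 : (E : Set X).ncard = Nat.card E := rfl
      omega
    obtain ⟨v, hv, hv1⟩ := big
    have h2 : v ∉ zpowers a := by
      intro hh
      obtain ⟨k, hk⟩ := mem_zpowers_iff.1 hh
      have hc2 : a ^ (2 : ℤ) = 1 := by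
        have := h.sqU a (h.EU ha)
        rw [zpow_ofNat, pow_two]; exact this
      rcases Int.even_or_odd' k with ⟨j, rfl | rfl⟩
      · rw [zpow_mul, hc2, one_zpow] at hk
        exact hv1 hk.symm
      · rw [zpow_add, zpow_mul, hc2, one_zpow, one_mul, zpow_one] at hk
        exact haV (hk ▸ hv)
    obtain ⟨M, hM, hMa, hMv⟩ := exists_hyp (U := E) (fun a ha b hb => h.abU a (h.EU ha) b (h.EU hb))
      (fun a ha => h.sqU a (h.EU ha)) ((zpowers_le).2 ha) (hV.le hv) h2
    obtain ⟨p, hp, p1, p2⟩ := h.tv M hM a (hMa (mem_zpowers a))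
    -- `s = r^p` has another hyperplane
    have hs := h.norR p hp r hr
    have hsE := h.conj_notMem_E hp hrE
    have hsD : ∀ x ∈ U, D n E (p * r * p⁻¹) x = tau t x := by
      intro x hx
      have hx' : p⁻¹ * x * p ∈ U := by
        have := h.norU p⁻¹ x hx
        rwa [inv_inv] at this
      have e : x = p * (p⁻¹ * x * p) * p⁻¹ := by group
      calc D n E (p * r * p⁻¹) x = D n E (p * r * p⁻¹) (p * (p⁻¹ * x * p) * p⁻¹) := by rw [← e]
        _ = p * D n E r (p⁻¹ * x * p) * p⁻¹ := h.D_conj hp hr hx'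
        _ = p * tau t (p⁻¹ * x * p) * p⁻¹ := by rw [h1 _ hx']
        _ = tau t x := by rw [← h.tau_conj hp, ← e]
    have hrs : r * (p * r * p⁻¹) ∉ E := by
      intro hcon
      -- then `V_s = V_r`
      have h3 : ∀ y ∈ U, cm (p * r * p⁻¹) y = cm r y := by
        intro y hy
        have e : p * r * p⁻¹ = r * (r * (p * r * p⁻¹)) := by rw [← mul_assoc r r, h.sqR r hr, one_mul]
        rw [e, h.cm_rs hr (h.ER hcon) hy, h.cm_E hcon hy, mul_one]
      have h4 := h.V_conj hp hr hv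
      rw [p2 v (hV.le hv) hMv] at h4
      have h5 : v * a ∈ h.V hr := ⟨h4.1, fun y hy hya => by
        have := h4.2 y hy hya
        rwa [h3 y hy] at this⟩
      apply haV
      have e : a = v⁻¹ * (v * a) := by group
      rw [e]; exact (h.V hr).mul_mem ((h.V hr).inv_mem hv) h5
    have hrsR := R.mul_mem hr hs
    -- type (A)
    have tA : ∀ x ∈ U, D n E (r * (p * r * p⁻¹)) x = 1 := by
      intro x hx
      rw [h.D_rs hr hs hx, h1 x hx, hsD x hx]
      exact h.sqU _ (h.EU (h.tau_mem hx))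
    -- type (B) by transitivity
    obtain ⟨q, hq, hqE⟩ := h.trans hr hrE hrsR hrs
    have tB : ∀ x ∈ U, D n E (r * (p * r * p⁻¹)) x = tau t x := by
      intro x hx
      have hx' : q⁻¹ * x * q ∈ U := by
        have := h.norU q⁻¹ x hx
        rwa [inv_inv] at this
      have e : x = q * (q⁻¹ * x * q) * q⁻¹ := by group
      have h3 : D n E (q * r * q⁻¹) x = tau t x := by
        calc D n E (q * r * q⁻¹) x = D n E (q * r * q⁻¹) (q * (q⁻¹ * x * q) * q⁻¹) := by rw [← e]
          _ = q * D n E r (q⁻¹ * x * q) * q⁻¹ := h.D_conj hq hr hx'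
          _ = q * tau t (q⁻¹ * x * q) * q⁻¹ := by rw [h1 _ hx']
          _ = tau t x := by rw [← h.tau_conj hq, ← e]
      have hqR := h.norR q hq r hr
      have h4 : q * r * q⁻¹ = (q * r * q⁻¹ * (r * (p * r * p⁻¹))) * (r * (p * r * p⁻¹)) := by
        rw [mul_assoc _ (r * (p * r * p⁻¹)) (r * (p * r * p⁻¹)), h.sqR _ hrsR, mul_one]
      rw [h4, h.D_rs (h.ER hqE) hrsR hx, h.D_E hqE hx, one_mul] at h3
      exact h3
    obtain ⟨x, hx, hxa⟩ := h.surj a ha
    have h5 := tA x hx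
    rw [tB x hx] at h5
    have h6 : a = 1 := by rw [← hxa]; exact h5
    exact haV (by rw [h6]; exact (h.V hr).one_mem)
  by_cases hrE : r ∈ E
  · exact Or.inl (h.cm_E hrE hx)
  · have h1 := main r hr hrE x hx
    rcases h.D_spec r x with h2 | h2
    · left; rw [h2, h1]
    · right; rw [h2, h1, mul_one]

end Red

end Cfsg.Agent.OddHalf.E2.Kill
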