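import Cfsg.Agent.OddHalf.CaseM.RankOne

/-!
# Case (M) of D8 for the type (E2): components of `C_G(z)`

The analogue of `CaseM.Main` for `R/⟨z⟩ = 3 + 3*`, where `P` is not primitive on `R`: the `P`-invariant subgroups
`E` of `R` different from `R` and not contained in `⟨z⟩` satisfy `EF`.

`main`: the conclusion of `CaseM.Hyp.main`.
-/

set_option autoImplicit false
set_option linter.unusedSectionVars false

namespace Cfsg.Agent.OddHalf.E2.NoComp

open Subgroup Cfsg
open Cfsg.Agent.SignalizersComponents.Components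
open Cfsg.Agent.Cit (cj mem_cj conj_mem_cj conj_mem_cj_iff)

open scoped commutatorElement

/-- the properties of the invariant subgroups between `⟨z⟩` and `R` -/
structure EF {X : Type*} [Group X] (z t : X) (R P E : Subgroup X) : Prop where
  /-- `E` does not centralise `R` -/
  zE : z ∈ ⁅E, R⁆
  /-- the centralizer of `E` in `C(t)` is `⟨t⟩E` -/
  cE : ∀ x, x * t = t * x → (∀ e ∈ E, x * e = e * x) → x ∈ E ∨ t * x ∈ E
  /-- an element of `P` trivial on `E/⟨z⟩` lies in `R` -/
  cm : ∀ p ∈ P, (∀ e ∈ E, p * e * p⁻¹ = e ∨ p * e * p⁻¹ = e * z) → p ∈ R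
  ab : ∀ a ∈ E, ∀ b ∈ E, a * b = b * a

/-- the hypotheses on `X = C_G(z)` and the involution `t` -/
structure Hyp {X : Type*} [Group X] (z t : X) (R P : Subgroup X) : Prop where
  zc : ∀ x, x * z = z * x
  zz : z * z = 1
  z1 : z ≠ 1
  tt : t * t = 1
  t1 : t ≠ 1
  tz : t ≠ z
  RP : R ≤ P
  Pt : ∀ x ∈ P, x * t = t * x
  Pperf : ⁅P, P⁆ = P
  Pn : ∀ x, x * t = t * x → ∀ p ∈ P, x * p * x⁻¹ ∈ P
  Rn : ∀ x, x * t = t * x → ∀ r ∈ R, x * r * x⁻¹ ∈ R
  R2 : IsPGroup 2 R
  zR : z ∈ ⁅R, R⁆
  cR : ∀ x, x * t = t * x → (∀ r ∈ R, x * r = r * x) → x = 1 ∨ x = z ∨ x = t ∨ x = t * z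
  /-- nontrivial perfect subnormal subgroups of `C(t)` contain `R` -/
  big : ∀ S : Subgroup X, S ≤ centralizer ({t} : Set X) →
    (S.subgroupOf (centralizer ({t} : Set X))).IsSubnormal → ⁅S, S⁆ = S → S ≠ ⊥ → R ≤ S
  /-- subnormal subgroups of `C(t)` not in `⟨t, z⟩` meet `⟨t⟩R` outside of `⟨t, z⟩` -/
  rad : ∀ S : Subgroup X, S ≤ centralizer ({t} : Set X) →
    (S.subgroupOf (centralizer ({t} : Set X))).IsSubnormal →
    (∀ s ∈ S, s = 1 ∨ s = z ∨ s = t ∨ s = t * z) ∨
      ∃ s ∈ S, ∃ r ∈ R, r ≠ 1 ∧ r ≠ z ∧ (s = r ∨ s = t * r)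
  tP : t ∉ P
  sq : ∀ r ∈ R, r * r = 1 ∨ r * r = z
  /-- the `P`-invariant subgroups of `R` -/
  inv : ∀ U : Subgroup X, U ≤ R → (∀ p ∈ P, ∀ u ∈ U, p * u * p⁻¹ ∈ U) →
    (∀ u ∈ U, u = 1 ∨ u = z) ∨ U = R ∨ EF z t R P U
  /-- `P` has no proper subgroup of small index -/
  idx : ∃ w : ℕ, Nat.card R ≤ 2 ^ (w + 1) ∧ ∀ H : Subgroup X, H ≤ P → H.relIndex P ≤ w → H = P
  /-- `R` contains the normal 2-subgroups of `P` -/
  core : ∀ U : Subgroup X, U ≤ P → IsPGroup 2 U → (∀ p ∈ P, ∀ u ∈ U, p * u * p⁻¹ ∈ U) → U ≤ R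
  out : ∀ x, x * x = 1 → x * t = t * x → (∀ p ∈ P, p⁻¹ * (x * p * x⁻¹) ∈ R) → x ∈ R ∨ t * x ∈ R
  hu : ∃ h u : X, h * t * h⁻¹ = t * u ∧ u ∈ P ∧ u ∉ R
  lam : ∀ l : X →* ℤˣ, l t = 1

/-- counting -/
theorem count {ι X : Type*} [Group X] [Finite X] [DecidableEq ι] {z : X} (hz1 : z ≠ 1) (c : ι → X)
    (hc : ∀ (F : Finset ι) (i : ι), i ∉ F → c i ∉ closure ({z} ∪ c '' (F : Set ι))) (F : Finset ι) :
    2 ^ (F.card + 1) ≤ Nat.card (closure ({z} ∪ c '' (F : Set ι))) := by
  induction F using Finset.induction_on with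
  | empty =>
    have hnt : Nontrivial (closure ({z} ∪ c '' ((∅ : Finset ι) : Set ι))) :=
      ⟨⟨⟨z, subset_closure (Or.inl rfl)⟩, 1, fun h => hz1 (congrArg Subtype.val h)⟩⟩
    have := Finite.one_lt_card (α := closure ({z} ∪ c '' ((∅ : Finset ι) : Set ι)))
    rw [Finset.card_empty]
    exact this
  | insert i F hi ih =>
    have hle : closure ({z} ∪ c '' (F : Set ι)) ≤ closure ({z} ∪ c '' ((insert i F : Finset ι) : Set ι)) := by
      apply Subgroup.closure_mono
      apply Set.union_subset_union_right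
      apply Set.image_mono
      rw [Finset.coe_insert]
      exact Set.subset_insert _ _
    have hmem : c i ∈ closure ({z} ∪ c '' ((insert i F : Finset ι) : Set ι)) :=
      subset_closure (Or.inr ⟨i, by simp, rfl⟩)
    obtain ⟨k, hk⟩ := Subgroup.card_dvd_of_le hle
    have hk0 : k ≠ 0 := by
      rintro rfl
      rw [mul_zero] at hk
      exact Nat.card_pos.ne' hk
    have hk1 : k ≠ 1 := by
      rintro rfl
      rw [mul_one] at hk
      have h1 := Subgroup.eq_of_le_of_card_ge hle hk.le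
      rw [← h1] at hmem
      exact hc F i hi hmem
    rw [Finset.card_insert_of_notMem hi, hk]
    calc 2 ^ (F.card + 1 + 1) = 2 ^ (F.card + 1) * 2 := pow_succ _ _
      _ ≤ Nat.card (closure ({z} ∪ c '' (F : Set ι))) * k := Nat.mul_le_mul ih (by omega)

namespace Hyp

variable {X : Type*} [Group X] {z t : X} {R P : Subgroup X}

theorem Rna (h : Hyp z t R P) : ¬ ∀ a ∈ R, ∀ b ∈ R, a * b = b * a := by
  intro hab
  have h1 : ⁅R, R⁆ = ⊥ := by
    rw [commutator_eq_bot_iff_le_centralizer]
    intro a ha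
    rw [mem_centralizer_iff]
    intro b hb
    exact hab b hb a ha
  have := h.zR
  rw [h1, mem_bot] at this
  exact h.z1 this

theorem zRR (h : Hyp z t R P) : z ∈ R := commutator_le_self R h.zR

theorem Rt (h : Hyp z t R P) : ∀ x ∈ R, x * t = t * x := fun x hx => h.Pt x (h.RP hx)

theorem tinv (h : Hyp z t R P) : t⁻¹ = t := inv_eq_of_mul_eq_one_right h.tt

theorem zinv (h : Hyp z t R P) : z⁻¹ = z := inv_eq_of_mul_eq_one_right h.zz

theorem tR (h : Hyp z t R P) : t ∉ R := fun hc => h.tP (h.RP hc)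

theorem PRn (h : Hyp z t R P) : ∀ p ∈ P, ∀ r ∈ R, p * r * p⁻¹ ∈ R := fun p hp r hr => h.Rn p (h.Pt p hp) r hr

/-- `R` is not contained in a quasisimple subgroup normalising it -/
theorem not_quasisimple [Finite X] (h : Hyp z t R P) {D : Subgroup X} (hD : IsQuasisimple D) (hRD : R ≤ D)
    (hn : ∀ x ∈ D, x * t = t * x) : False := by
  have hN : (R.subgroupOf D).Normal := by
    refine ⟨fun r hr g => ?_⟩
    rw [mem_subgroupOf] at hr ⊢
    exact h.Rn g (hn g g.2) r hr
  rcases quasisimple_normal hD _ hN with h1 | h1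
  · -- `R = D` is solvable
    have h2 : D ≤ R := by
      intro x hx
      have : (⟨x, hx⟩ : D) ∈ R.subgroupOf D := by rw [h1]; trivial
      rwa [mem_subgroupOf] at this
    have h3 : ⁅D, D⁆ = D := isPerfect_iff.1 hD.1
    have h4 : D = R := le_antisymm h2 hRD
    have : Fact (Nat.Prime 2) := ⟨Nat.prime_two⟩
    apply quasisimple_not_isSolvable hD
    have h5 := h.R2.isNilpotent
    rw [h4]
    infer_instance
  · -- `R` is abelian
    apply h.Rna
    intro a ha b hb
    have h2 := h1 (show (⟨a, hRD ha⟩ : D) ∈ R.subgroupOf D from ha)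
    rw [mem_center_iff] at h2
    exact (congrArg Subtype.val (h2 ⟨b, hRD hb⟩)).symm

theorem cj_R (h : Hyp z t R P) {x : X} (hx : x * t = t * x) : cj x R = R := by
  apply le_antisymm
  · rintro _ ⟨r, hr, rfl⟩
    exact h.Rn x hx r hr
  · intro r hr
    rw [mem_cj]
    have hx' : x⁻¹ * t = t * x⁻¹ := by
      rw [inv_mul_eq_iff_eq_mul, ← mul_assoc, hx, mul_inv_cancel_right]
    have := h.Rn x⁻¹ hx' r hr
    rwa [inv_inv] at this

theorem cj_P (h : Hyp z t R P) {x : X} (hx : x * t = t * x) : cj x P = P := by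
  apply le_antisymm
  · rintro _ ⟨r, hr, rfl⟩
    exact h.Pn x hx r hr
  · intro r hr
    rw [mem_cj]
    have hx' : x⁻¹ * t = t * x⁻¹ := by
      rw [inv_mul_eq_iff_eq_mul, ← mul_assoc, hx, mul_inv_cancel_right]
    have := h.Pn x⁻¹ hx' r hr
    rwa [inv_inv] at this

/-- `t` normalises every component -/
theorem cj_t [Finite X] (h : Hyp z t R P) {M : Subgroup X} (hM : IsComponent M) : cj t M = M := by
  by_contra hne
  obtain ⟨D, hD1, -, hD2, hD3, -⟩ := Cfsg.Agent.Cit.Comp.exists_diag hM h.tt hne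
  have hDp : ⁅D, D⁆ = D := isPerfect_iff.1 hD3.1
  have hDne : D ≠ ⊥ := by
    rintro rfl
    have := quasisimple_nontrivial hD3
    exact not_nontrivial _ this
  have hRD := h.big D hD1 hD2.1 hDp hDne
  exact h.not_quasisimple hD3 hRD (fun x hx => mem_centralizer_singleton_iff.1 (hD1 hx))

/-- `P` does not act trivially on an invariant subgroup of `R` not contained in `⟨z⟩` -/
theorem not_triv (h : Hyp z t R P) {U : Subgroup X} (hU : U = R ∨ EF z t R P U)
    (hUP : ∀ p ∈ P, ∀ u ∈ U, p * u * p⁻¹ = u ∨ p * u * p⁻¹ = u * z) : False := by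
  have h2 : ⁅⁅P, U⁆, P⁆ = ⊥ := by
    have hle : ⁅P, U⁆ ≤ zpowers z := by
      rw [commutator_le]
      intro p hp u hu
      rw [commutatorElement_def]
      rcases hUP p hp u hu with e | e
      · rw [e, mul_inv_cancel]; exact one_mem _
      · rw [e, h.zc u, mul_inv_cancel_right]; exact mem_zpowers z
    rw [commutator_eq_bot_iff_le_centralizer]
    intro x hx
    rw [mem_centralizer_iff]
    intro p _
    obtain ⟨k, rfl⟩ := mem_zpowers_iff.1 (hle hx)
    exact ((show Commute p z from h.zc p).zpow_right k).eq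
  have h3 : ⁅⁅U, P⁆, P⁆ = ⊥ := by rw [commutator_comm U P]; exact h2
  have h4 : ⁅⁅P, P⁆, U⁆ = ⊥ := commutator_commutator_eq_bot_of_rotate (by rw [commutator_comm P U]; exact h3) h3
  rw [h.Pperf] at h4
  rcases hU with rfl | hE
  · apply h.Rna
    intro a ha b hb
    have h5 := (commutator_eq_bot_iff_le_centralizer.1 h4) (h.RP ha)
    rw [mem_centralizer_iff] at h5
    exact (h5 b hb).symm
  · have h5 : ⁅U, R⁆ ≤ ⁅P, U⁆ := by
      rw [commutator_comm P U]
      exact commutator_mono le_rfl h.RP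
    have h6 := h5 hE.zE
    rw [h4, mem_bot] at h6
    exact h.z1 h6

/-- `C_{R/z}(P) = 1` -/
theorem cz (h : Hyp z t R P) {r : X} (hr : r ∈ R) (hP : ∀ p ∈ P, p * r * p⁻¹ = r ∨ p * r * p⁻¹ = r * z) :
    r = 1 ∨ r = z := by
  let U : Subgroup X :=
    { carrier := {u | u ∈ R ∧ ∀ p ∈ P, p * u * p⁻¹ = u ∨ p * u * p⁻¹ = u * z}
      one_mem' := ⟨R.one_mem, fun p _ => Or.inl (by group)⟩
      mul_mem' := by
        rintro a b ⟨ha, ha'⟩ ⟨hb, hb'⟩
        refine ⟨R.mul_mem ha hb, fun p hp => ?_⟩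
        have e : p * (a * b) * p⁻¹ = (p * a * p⁻¹) * (p * b * p⁻¹) := by group
        rw [e]
        rcases ha' p hp with h1 | h1 <;> rcases hb' p hp with h2 | h2
        · left; rw [h1, h2]
        · right; rw [h1, h2, mul_assoc]
        · right; rw [h1, h2, mul_assoc, ← h.zc b, mul_assoc]
        · left
          rw [h1, h2]
          calc a * z * (b * z) = a * (z * b) * z := by group
            _ = a * (b * z) * z := by rw [h.zc b]
            _ = a * b * (z * z) := by group
            _ = a * b := by rw [h.zz, mul_one]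
      inv_mem' := by
        rintro a ⟨ha, ha'⟩
        refine ⟨R.inv_mem ha, fun p hp => ?_⟩
        have e : p * a⁻¹ * p⁻¹ = (p * a * p⁻¹)⁻¹ := by group
        rw [e]
        rcases ha' p hp with h1 | h1
        · left; rw [h1]
        · right; rw [h1, mul_inv_rev, h.zinv, h.zc a⁻¹] }
  have hmem : ∀ u, u ∈ U ↔ u ∈ R ∧ ∀ p ∈ P, p * u * p⁻¹ = u ∨ p * u * p⁻¹ = u * z := fun u => Iff.rfl
  have hzU : z ∈ U := ⟨h.zRR, fun p _ => Or.inl (by rw [h.zc p, mul_inv_cancel_right])⟩
  rcases h.inv U (fun u hu => hu.1) (fun p hp u hu => by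
    rcases hu.2 p hp with e | e
    · rw [e]; exact hu
    · rw [e]; exact U.mul_mem hu hzU) with h1 | h1
  · exact h1 r ⟨hr, hP⟩
  · exact (h.not_triv h1 fun p hp u hu => hu.2 p hp).elim

section NormalAbelian

variable {B : Subgroup X}

theorem comm_of_sq (hBB : ∀ b ∈ B, b * b = 1) : ∀ a ∈ B, ∀ b ∈ B, a * b = b * a := by
  intro a ha b hb
  have h1 := hBB _ (B.mul_mem ha hb)
  have h2 : a⁻¹ = a := inv_eq_of_mul_eq_one_right (hBB a ha)
  have h3 : b⁻¹ = b := inv_eq_of_mul_eq_one_right (hBB b hb)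
  rw [← mul_eq_one_iff_inv_eq.1 h1, mul_inv_rev, h2, h3] 

theorem t_not_mem (h : Hyp z t R P) (hB : B.Normal) (hBB : ∀ b ∈ B, b * b = 1) : t ∉ B := by
  intro htB
  obtain ⟨g, u, hg, hu, huR⟩ := h.hu
  have h1 : t * u ∈ B := by rw [← hg]; exact hB.conj_mem t htB g
  have h2 : u ∈ B := (B.mul_mem_cancel_left htB).1 h1
  apply huR
  refine h.core (B ⊓ P) inf_le_right ?_ ?_ ⟨h2, hu⟩
  · have : Fact (Nat.Prime 2) := ⟨Nat.prime_two⟩
    intro b
    refine ⟨1, Subtype.ext ?_⟩
    have := hBB _ b.2.1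
    simpa [pow_succ] using this
  · intro p hp u hu
    exact ⟨hB.conj_mem u hu.1 p, P.mul_mem (P.mul_mem hp hu.2) (P.inv_mem hp)⟩

theorem fix_le (h : Hyp z t R P) (hB : B.Normal) (hBB : ∀ b ∈ B, b * b = 1) (hz : z ∈ B) {x : X} (hx : x ∈ B)
    (hxt : x * t = t * x) : x ∈ R := by
  have hab := comm_of_sq hBB
  have htB := h.t_not_mem hB hBB
  have hBP : ∀ u, u ∈ B → u ∈ P → u ∈ R := by
    intro u h1 h2
    refine h.core (B ⊓ P) inf_le_right ?_ ?_ ⟨h1, h2⟩
    · intro b
      refine ⟨1, Subtype.ext ?_⟩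
      have := hBB _ b.2.1
      simpa [pow_succ] using this
    · intro p hp u hu
      exact ⟨hB.conj_mem u hu.1 p, P.mul_mem (P.mul_mem hp hu.2) (P.inv_mem hp)⟩
  rcases h.out x (hBB x hx) hxt (fun p hp => by
    apply hBP
    · have h1 := hB.conj_mem x hx p⁻¹
      rw [inv_inv] at h1
      have e : p⁻¹ * (x * p * x⁻¹) = (p⁻¹ * x * p) * x⁻¹ := by group
      rw [e]
      exact B.mul_mem h1 (B.inv_mem hx)
    · exact P.mul_mem (P.inv_mem hp) (h.Pn x hxt p hp)) with h1 | h1
  · exact h1
  -- `x = t r`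
  have hxr : x = t * (t * x) := by rw [← mul_assoc, h.tt, one_mul]
  rcases h.inv (B ⊓ R) inf_le_right (fun p hp u hu => ⟨hB.conj_mem u hu.1 p, h.PRn p hp u hu.2⟩) with h2 | h2 | h2
  · exfalso
    have h3 : t * x = 1 ∨ t * x = z := by
      apply h.cz h1
      intro p hp
      have e : p * (t * x) * p⁻¹ * (t * x)⁻¹ = p * x * p⁻¹ * x⁻¹ := by
        have e1 : p * (t * x) * p⁻¹ = t * (p * x * p⁻¹) := by
          calc p * (t * x) * p⁻¹ = (p * t) * x * p⁻¹ := by group
            _ = t * p * x * p⁻¹ := by rw [h.Pt p hp]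
            _ = t * (p * x * p⁻¹) := by group
        have e2 : p * x * p⁻¹ * x⁻¹ * t = t * (p * x * p⁻¹ * x⁻¹) := by
          have c1 : Commute p t := h.Pt p hp
          have c2 : Commute x t := hxt
          exact (((c1.mul_left c2).mul_left c1.inv_left).mul_left c2.inv_left).eq
        rw [e1, mul_inv_rev]
        calc t * (p * x * p⁻¹) * (x⁻¹ * t⁻¹) = (t * (p * x * p⁻¹ * x⁻¹)) * t⁻¹ := by group
          _ = p * x * p⁻¹ * x⁻¹ := by rw [← e2, mul_inv_cancel_right]
      have h4 : p * (t * x) * p⁻¹ * (t * x)⁻¹ ∈ B ⊓ R := by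
        refine ⟨?_, R.mul_mem (h.PRn p hp _ h1) (R.inv_mem h1)⟩
        rw [e]
        exact B.mul_mem (hB.conj_mem x hx p) (B.inv_mem hx)
      rcases h2 _ h4 with h5 | h5
      · left
        exact mul_inv_eq_one.1 h5
      · right
        rw [mul_inv_eq_iff_eq_mul] at h5
        rw [h5, h.zc]
    rcases h3 with h4 | h4
    · apply htB
      rw [h4, mul_one] at hxr
      rw [← hxr]; exact hx
    · apply htB
      rw [h4] at hxr
      have : t = x * z := by rw [hxr, mul_assoc, h.zz, mul_one]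
      rw [this]; exact B.mul_mem hx hz
  · exfalso
    apply h.Rna
    intro a ha b hb
    rw [← h2] at ha hb
    exact hab a ha.1 b hb.1
  · rcases h2.cE (t * x) (by rw [mul_assoc, hxt]) (fun e he => by
      have c1 : Commute t e := (h.Rt e he.2).symm
      have c2 : Commute x e := hab x hx e he.1
      exact (c1.mul_left c2).eq) with h3 | h3
    · exfalso
      apply htB
      have : t = (t * x) * x⁻¹ := by group
      rw [this]
      exact B.mul_mem h3.1 (B.inv_mem hx)
    · rw [← hxr] at h3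
      exact h3.2

/-- the homomorphism `λ` -/
theorem no_lam (h : Hyp z t R P) {b : X} (hz : ∀ g : X, g * b * g⁻¹ = b ∨ g * b * g⁻¹ = b * z)
    (htb : t * b * t⁻¹ = b * z) : False := by
  classical
  have hne : b * z ≠ b := fun e => h.z1 (mul_eq_left.1 e)
  have e2 : ∀ g : X, g * (b * z) * g⁻¹ = g * b * g⁻¹ * z := by
    intro g
    calc g * (b * z) * g⁻¹ = g * b * (z * g⁻¹) := by group
      _ = g * b * (g⁻¹ * z) := by rw [h.zc]
      _ = g * b * g⁻¹ * z := by group
  let l : X →* ℤˣ :=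
    { toFun := fun g => if g * b * g⁻¹ = b then 1 else -1
      map_one' := by simp
      map_mul' := fun g k => by
        have e : g * k * b * (g * k)⁻¹ = g * (k * b * k⁻¹) * g⁻¹ := by group
        rw [e]
        rcases hz k with h1 | h1 <;> rcases hz g with h2 | h2
        · rw [h1, h2]; simp
        · rw [h1, h2]; simp [hne]
        · rw [h1, e2, h2]; simp [hne]
        · rw [h1, e2, h2, mul_assoc, h.zz]; simp [hne] }
  have h1 := h.lam l
  have h2 : l t = -1 := by
    show (if t * b * t⁻¹ = b then (1 : ℤˣ) else -1) = -1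
    rw [htb, if_neg hne]
  rw [h2] at h1
  exact absurd h1 (by decide)

/-- **normal elementary abelian 2-subgroups are contained in `⟨z⟩`** -/
theorem no_elem [Finite X] (h : Hyp z t R P) {M : Subgroup X} (hM : IsComponent M) (hev : 2 ∣ Nat.card M)
    (hB : B.Normal) (hBB : ∀ b ∈ B, b * b = 1) (hz : z ∈ B) : ∀ b ∈ B, b = 1 ∨ b = z := by
  classical
  have : Fact (Nat.Prime 2) := ⟨Nat.prime_two⟩
  have hab := comm_of_sq hBB
  have htB := h.t_not_mem hB hBB
  have hfix : ∀ x ∈ B, x * t = t * x → x ∈ R := fun x hx hxt => h.fix_le hB hBB hz hx hxt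
  have hBi : ∀ b ∈ B, b⁻¹ = b := fun b hb => inv_eq_of_mul_eq_one_right (hBB b hb)
  have htb : ∀ b ∈ B, t * b * t⁻¹ ∈ B := fun b hb => hB.conj_mem b hb t
  have hbt : ∀ b ∈ B, (b * (t * b * t⁻¹)) * t = t * (b * (t * b * t⁻¹)) := by
    intro b hb
    have h1 := hab b hb _ (htb b hb)
    calc (b * (t * b * t⁻¹)) * t = ((t * b * t⁻¹) * b) * t := by rw [h1]
      _ = t * b * t⁻¹ * b * t := by group
      _ = t * b * t * b * t⁻¹ := by rw [h.tinv]
      _ = t * (b * (t * b * t⁻¹)) := by group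
  rcases h.inv (B ⊓ R) inf_le_right (fun p hp u hu => ⟨hB.conj_mem u hu.1 p, h.PRn p hp u hu.2⟩) with h1 | h1 | hE
  · -- the case of a normal subgroup of order four
    intro b hb
    by_contra hne
    push Not at hne
    have hone : ∀ x ∈ B, x * t = t * x → x = 1 ∨ x = z := fun x hx hxt => h1 x ⟨hx, hfix x hx hxt⟩
    have hbt2 : ∀ x ∈ B, x ≠ 1 → x ≠ z → t * x * t⁻¹ = x * z := by
      intro x hx hx1 hxz
      rcases hone _ (B.mul_mem hx (htb x hx)) (hbt x hx) with e | e
      · exfalso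
        have e1 : t * x * t⁻¹ = x := by
          rw [← hBi x hx]
          rw [hBi x hx]
          exact (eq_inv_of_mul_eq_one_right e).trans (hBi x hx)
        rcases hone x hx (by rw [mul_inv_eq_iff_eq_mul] at e1; exact e1.symm) with e2 | e2
        · exact hx1 e2
        · exact hxz e2
      · calc t * x * t⁻¹ = x⁻¹ * (x * (t * x * t⁻¹)) := by group
          _ = x * z := by rw [e, hBi x hx]
    refine h.no_lam (b := b) (fun g => ?_) (hbt2 b hb hne.1 hne.2)
    have hgb : g * b * g⁻¹ ∈ B := hB.conj_mem b hb g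
    have hg1 : g * b * g⁻¹ ≠ 1 := by
      intro e
      rw [mul_inv_eq_one] at e
      exact hne.1 (mul_eq_left.1 e)
    have hgz : g * b * g⁻¹ ≠ z := by
      intro e
      rw [mul_inv_eq_iff_eq_mul, ← h.zc] at e
      exact hne.2 (mul_left_cancel e)
    have h2 := hbt2 _ hgb hg1 hgz
    have h3 := hbt2 b hb hne.1 hne.2
    rcases hone (b * (g * b * g⁻¹)) (B.mul_mem hb hgb) (by
      have e : t * (b * (g * b * g⁻¹)) * t⁻¹ = b * (g * b * g⁻¹) := by
        calc t * (b * (g * b * g⁻¹)) * t⁻¹ = (t * b * t⁻¹) * (t * (g * b * g⁻¹) * t⁻¹) := by group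
          _ = b * (z * (g * b * g⁻¹)) * z := by rw [h2, h3]; group
          _ = b * ((g * b * g⁻¹) * z) * z := by rw [h.zc (g * b * g⁻¹)]
          _ = b * (g * b * g⁻¹) * (z * z) := by group
          _ = b * (g * b * g⁻¹) := by rw [h.zz, mul_one]
      rw [mul_inv_eq_iff_eq_mul] at e
      exact e.symm) with e | e
    · left
      exact (eq_inv_of_mul_eq_one_right e).trans (hBi b hb)
    · right
      calc g * b * g⁻¹ = b⁻¹ * (b * (g * b * g⁻¹)) := by group
        _ = b * z := by rw [e, hBi b hb]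
  · exfalso
    apply h.Rna
    intro a ha b hb
    rw [← h1] at ha hb
    exact hab a ha.1 b hb.1
  · exfalso
    -- `W = [B, t]`
    let W : Subgroup X :=
      { carrier := {x | ∃ b ∈ B, x = b * (t * b * t⁻¹)}
        one_mem' := ⟨1, B.one_mem, by group⟩
        mul_mem' := by
          rintro _ _ ⟨a, ha, rfl⟩ ⟨b, hb, rfl⟩
          refine ⟨a * b, B.mul_mem ha hb, ?_⟩
          have e := hab b hb _ (htb a ha)
          calc a * (t * a * t⁻¹) * (b * (t * b * t⁻¹)) = a * ((t * a * t⁻¹) * b) * (t * b * t⁻¹) := by group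
            _ = a * (b * (t * a * t⁻¹)) * (t * b * t⁻¹) := by rw [e]
            _ = a * b * (t * (a * b) * t⁻¹) := by group
        inv_mem' := by
          rintro _ ⟨a, ha, rfl⟩
          refine ⟨a, ha, ?_⟩
          exact hBi _ (B.mul_mem ha (htb a ha)) }
    have hWB : W ≤ B := by
      rintro _ ⟨b, hb, rfl⟩
      exact B.mul_mem hb (htb b hb)
    have hWR : W ≤ R := by
      rintro _ ⟨b, hb, rfl⟩
      exact hfix _ (B.mul_mem hb (htb b hb)) (hbt b hb)
    have hWE : B ⊓ R ≤ W := by
      rcases h.inv W hWR (fun p hp u hu => by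
        obtain ⟨b, hb, rfl⟩ := hu
        refine ⟨p * b * p⁻¹, hB.conj_mem b hb p, ?_⟩
        have c1 : p * t = t * p := h.Pt p hp
        have c2 : t⁻¹ * p⁻¹ = p⁻¹ * t⁻¹ := by rw [← mul_inv_rev, ← mul_inv_rev, c1]
        calc p * (b * (t * b * t⁻¹)) * p⁻¹ = (p * b * p⁻¹) * ((p * t) * b * (t⁻¹ * p⁻¹)) := by group
          _ = (p * b * p⁻¹) * (t * (p * b * p⁻¹) * t⁻¹) := by rw [c1, c2]; group) with h2 | h2 | h2
      · exfalso
        -- `t` is trivial on `B/⟨z⟩`, hence so is `u`
        have key : ∀ b ∈ B, t * b * t⁻¹ = b ∨ t * b * t⁻¹ = b * z := by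
          intro b hb
          rcases h2 _ ⟨b, hb, rfl⟩ with e | e
          · left
            exact (eq_inv_of_mul_eq_one_right e).trans (hBi b hb)
          · right
            calc t * b * t⁻¹ = b⁻¹ * (b * (t * b * t⁻¹)) := by group
              _ = b * z := by rw [e, hBi b hb]
        obtain ⟨g, u, hg, hu, huR⟩ := h.hu
        apply huR
        apply hE.cm u hu
        intro e he
        -- `(t u) e (t u)⁻¹ ∈ {e, e z}`
        have h3 : (t * u) * e * (t * u)⁻¹ = e ∨ (t * u) * e * (t * u)⁻¹ = e * z := by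
          have hb : g⁻¹ * e * g ∈ B := by
            have := hB.conj_mem e he.1 g⁻¹
            rwa [inv_inv] at this
          have e1 : (t * u) * e * (t * u)⁻¹ = g * (t * (g⁻¹ * e * g) * t⁻¹) * g⁻¹ := by
            rw [← hg]; group
          rw [e1]
          rcases key _ hb with h4 | h4
          · left; rw [h4]; group
          · right
            rw [h4]
            calc g * (g⁻¹ * e * g * z) * g⁻¹ = e * ((g * z) * g⁻¹) := by group
              _ = e * z := by rw [h.zc g, mul_inv_cancel_right]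
        -- `t` commutes with `u e u⁻¹ ∈ R`
        have h4 : (t * u) * e * (t * u)⁻¹ = u * e * u⁻¹ := by
          have h5 := h.Rt _ (h.PRn u hu e he.2)
          calc (t * u) * e * (t * u)⁻¹ = t * (u * e * u⁻¹) * t⁻¹ := by group
            _ = u * e * u⁻¹ := by rw [← h5, mul_inv_cancel_right]
        rwa [h4] at h3
      · exfalso
        apply h.Rna
        intro a ha b hb
        rw [← h2] at ha hb
        exact hab a (hWB ha) b (hWB hb)
      · intro e he
        rcases h2.cE e (h.Rt e he.2) (fun w hw => hab e he.1 w (hWB hw)) with h3 | h3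
        · exact h3
        · exfalso
          apply h.tR
          have : t = (t * e) * e⁻¹ := by group
          rw [this]
          exact R.mul_mem (hWR h3) (R.inv_mem he.2)
    -- `t` does not centralise `B`
    have hnt : ¬ ∀ b ∈ B, t * b = b * t := by
      intro hc
      obtain ⟨b, hb, e⟩ := hWE (⟨hz, h.zRR⟩ : z ∈ B ⊓ R)
      rw [hc b hb, mul_inv_cancel_right, hBB b hb] at e
      exact h.z1 e
    -- the main step
    have step : ∀ y : X, (∀ b ∈ B, y * b = b * y) → y * t * y⁻¹ * t⁻¹ ∈ B → y ∈ B := by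
      intro y hy hyt
      set c : X := y * t * y⁻¹ * t⁻¹ with hc
      have e1 : y * t * y⁻¹ = c * t := by rw [hc]; group
      have hct : c * t = t * c := by
        have e2 : (c * t) * (c * t) = 1 := by
          rw [← e1]
          calc y * t * y⁻¹ * (y * t * y⁻¹) = y * (t * t) * y⁻¹ := by group
            _ = 1 := by rw [h.tt]; group
        have e3 : (c * t)⁻¹ = c * t := inv_eq_of_mul_eq_one_right e2
        rw [mul_inv_rev, h.tinv, hBi c hyt] at e3
        exact e3.symm
      obtain ⟨b, hb, hcb⟩ := hWE (⟨hyt, hfix c hyt hct⟩ : c ∈ B ⊓ R)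
      have e4 : b * t * b⁻¹ = c * t := by
        rw [hcb, hBi b hb]; group
      -- `b⁻¹ y` centralises `t` and `B`
      have h5 : (b⁻¹ * y) * t = t * (b⁻¹ * y) := by
        have e5 : y * t * y⁻¹ = b * t * b⁻¹ := by rw [e1, e4]
        calc (b⁻¹ * y) * t = b⁻¹ * (y * t * y⁻¹) * y := by group
          _ = t * (b⁻¹ * y) := by rw [e5]; group
      have h6 : ∀ a ∈ B, (b⁻¹ * y) * a = a * (b⁻¹ * y) := by
        intro a ha
        have c1 : Commute b a := hab b hb a ha
        have c2 : Commute y a := hy a ha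
        exact (c1.inv_left.mul_left c2).eq
      rcases hE.cE _ h5 (fun e he => h6 e he.1) with h7 | h7
      · have : y = b * (b⁻¹ * y) := by group
        rw [this]
        exact B.mul_mem hb h7.1
      · exfalso
        apply hnt
        intro a ha
        have c1 : Commute (t * (b⁻¹ * y)) a := hab _ h7.1 a ha
        have c2 : Commute (b⁻¹ * y) a := h6 a ha
        have c3 : Commute (t * (b⁻¹ * y) * (b⁻¹ * y)⁻¹) a := c1.mul_left c2.inv_left
        rw [mul_inv_cancel_right] at c3
        exact c3.eq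
    -- the component
    have hMB : ∀ m ∈ M, ∀ b ∈ B, m * b = b * m := by
      have hcomm : Group.IsSolvable B := by
        have hB2 : IsPGroup 2 B := by
          intro b
          refine ⟨1, Subtype.ext ?_⟩
          have := hBB _ b.2
          simpa [pow_succ] using this
        have := hB2.isNilpotent
        infer_instance
      have h1 := component_commutator_solvable hM (H := B) (by
        rw [normalizer_eq_top_iff.mpr hB]; exact le_top) hcomm
      rw [commutator_eq_bot_iff_le_centralizer] at h1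
      intro m hm b hb
      exact (mem_centralizer_iff.1 (h1 hm) b hb).symm
    have hp : IsPGroup 2 (zpowers t) := IsPGroup.of_card (n := 1) (by
      rw [Nat.card_zpowers, pow_one]; exact orderOf_eq_prime (by rw [pow_two, h.tt]) h.t1)
    obtain ⟨T, hT⟩ := hp.exists_le_sylow
    have htT : t ∈ (T : Subgroup X) := hT (mem_zpowers t)
    obtain ⟨Q, hQ⟩ := Cfsg.Agent.S0542.result 2 M hM.1 T
    have hQmem : ∀ x : M, x ∈ (Q : Subgroup M) ↔ (x : X) ∈ (T : Subgroup X) := by
      intro x; rw [hQ, mem_subgroupOf]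
    have hcjM := h.cj_t hM
    have hnil : Group.IsNilpotent (T : Subgroup X) := T.2.isNilpotent
    have hup : ∀ n : ℕ, ∀ y : (T : Subgroup X), y ∈ Subgroup.upperCentralSeries (T : Subgroup X) n → (y : X) ∈ M →
        (y : X) ∈ B := by
      intro n
      induction n with
      | zero =>
        intro y hy _
        rw [Subgroup.upperCentralSeries_zero, mem_bot] at hy
        rw [hy]; exact B.one_mem
      | succ n ih =>
        intro y hy hyM
        have h1 := (Subgroup.mem_upperCentralSeries_succ_iff.1 hy) ⟨t, htT⟩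
        apply step y (hMB y hyM)
        refine ih _ h1 ?_
        have h2 : t * (y : X)⁻¹ * t⁻¹ ∈ M := by
          have := conj_mem_cj (g := t) (M.inv_mem hyM)
          rwa [hcjM] at this
        have e : (y : X) * t * (y : X)⁻¹ * t⁻¹ = y * (t * (y : X)⁻¹ * t⁻¹) := by group
        change (y : X) * t * (y : X)⁻¹ * t⁻¹ ∈ M
        rw [e]
        exact M.mul_mem hyM h2
    have hTM : ∀ y : M, y ∈ (Q : Subgroup M) → (y : X) ∈ B := by
      intro y hy
      obtain ⟨n, hn⟩ := (Group.isNilpotent_iff (T : Subgroup X)).1 hnil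
      apply hup n ⟨y, (hQmem y).1 hy⟩ _ y.2
      rw [hn]; trivial
    -- `Q` is central in the perfect group `M`
    have hQc : (Q : Subgroup M) ≤ center M := by
      intro y hy
      rw [mem_center_iff]
      intro m
      exact Subtype.ext (hMB m m.2 y (hTM y hy))
    have hQ1 : (Q : Subgroup M) = ⊥ := by
      rw [eq_bot_iff]
      intro y hy
      rw [mem_bot]
      have h2 : (MonoidHom.transferCenterPow M) y = 1 := by
        have h3 : commutator M ≤ (MonoidHom.transferCenterPow M).ker := by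
          rw [_root_.commutator_def, commutator_le]
          intro a _ b _
          rw [MonoidHom.mem_ker, map_commutatorElement, commutatorElement_eq_one_iff_mul_comm]
          exact Subtype.ext (mem_center_iff.1 ((MonoidHom.transferCenterPow M) b).2 _)
        rw [hM.2.1.commutator_eq_top] at h3
        exact h3 (mem_top y)
      have h4 : y ^ (center M).index = 1 := by
        have := congrArg Subtype.val h2
        rwa [MonoidHom.transferCenterPow_apply] at this
      have h5 : ¬ 2 ∣ (center M).index := by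
        intro hd
        apply Q.not_dvd_index
        exact hd.trans (Subgroup.index_dvd_of_le hQc)
      obtain ⟨k, hk⟩ := Q.2 ⟨y, hy⟩
      have h6 : y ^ (2 ^ k) = 1 := congrArg Subtype.val hk
      have h7 : orderOf y ∣ 2 ^ k := orderOf_dvd_of_pow_eq_one h6
      have h8 : orderOf y ∣ (center M).index := orderOf_dvd_of_pow_eq_one h4
      have h9 : (2 ^ k).Coprime (center M).index :=
        Nat.Coprime.pow_left k ((Nat.Prime.coprime_iff_not_dvd Nat.prime_two).2 h5)
      exact orderOf_eq_one_iff.1 (Nat.eq_one_of_dvd_coprimes h9 h7 h8)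
    have h3 := Q.card_eq_multiplicity
    rw [show Nat.card Q = Nat.card (Q : Subgroup M) from rfl, hQ1, card_bot] at h3
    have h4 : 0 < (Nat.card M).factorization 2 :=
      Nat.Prime.factorization_pos_of_dvd Nat.prime_two Nat.card_pos.ne' hev
    have h5 : 1 < 2 ^ (Nat.card M).factorization 2 := Nat.one_lt_two_pow h4.ne'
    omega

end NormalAbelian

/-- elements of `M` in `⟨t⟩R - ⟨t, z⟩` are not central in `M` -/
theorem not_cen [Finite X] (h : Hyp z t R P) {M₀ : Subgroup X} (hM₀ : IsComponent M₀) (hev : 2 ∣ Nat.card M₀)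
    {M : Subgroup X} (hM : IsComponent M) {s r : X} (hs : s ∈ M) (hr : r ∈ R) (hr1 : r ≠ 1) (hrz : r ≠ z)
    (hsr : s = r ∨ s = t * r) : ¬ ∀ m ∈ M, m * s = s * m := by
  intro hcen
  -- the centre of the layer
  set A : Subgroup X := layer X ⊓ centralizer (layer X : Set X) with hA
  have hln : (layer X).Normal := Cfsg.Agent.SignalizersComponents.Components.layer_normal X
  have hAn : A.Normal := by
    have h2 : (centralizer (layer X : Set X)).Normal := inferInstance
    rw [hA]
    infer_instance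
  have hAc : ∀ a ∈ A, ∀ b ∈ A, a * b = b * a := fun a ha b hb =>
    (mem_centralizer_iff.1 hb.2 a ha.1)
  have hsA : s ∈ A := by
    have h1 : layer X ≤ centralizer ({s} : Set X) := by
      rw [layer_le_iff]
      intro L hL x hx
      rw [mem_centralizer_singleton_iff]
      by_cases hLM : L = M
      · subst hLM
        exact hcen x hx
      · exact Cfsg.Agent.Cit.Comp.comm_of_ne hL hM hLM hx hs
    exact ⟨component_le_layer hM hs, mem_centralizer_iff.2 fun x hx => mem_centralizer_singleton_iff.1 (h1 hx)⟩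
  -- its involutions
  let B : Subgroup X :=
    { carrier := {x | (x ∈ A ∨ x * z ∈ A) ∧ x * x = 1}
      one_mem' := ⟨Or.inl A.one_mem, by rw [mul_one]⟩
      mul_mem' := by
        rintro a b ⟨ha, ha'⟩ ⟨hb, hb'⟩
        have hc : a * b = b * a := by
          have hz : ∀ x : X, Commute x z := h.zc
          have key : Commute a b := by
            rcases ha with ha | ha <;> rcases hb with hb | hb
            · exact hAc a ha b hb
            · have e : b = (b * z) * z := by rw [mul_assoc, h.zz, mul_one]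
              rw [e]
              exact (show Commute a (b * z) from hAc a ha _ hb).mul_right (hz a)
            · have e : a = (a * z) * z := by rw [mul_assoc, h.zz, mul_one]
              rw [e]
              exact (show Commute (a * z) b from hAc _ ha b hb).mul_left (hz b).symm
            · have e : a = (a * z) * z := by rw [mul_assoc, h.zz, mul_one]
              have e' : b = (b * z) * z := by rw [mul_assoc, h.zz, mul_one]
              rw [e, e']
              exact ((show Commute (a * z) (b * z) from hAc _ ha _ hb).mul_right (hz _)).mul_left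
                (hz _).symm
          exact key.eq
        refine ⟨?_, ?_⟩
        · rcases ha with ha | ha <;> rcases hb with hb | hb
          · exact Or.inl (A.mul_mem ha hb)
          · right; rw [mul_assoc]; exact A.mul_mem ha hb
          · right
            have e : a * b * z = (a * z) * b := by rw [mul_assoc, h.zc b, mul_assoc]
            rw [e]; exact A.mul_mem ha hb
          · left
            have e : a * b = (a * z) * (b * z) := by
              calc a * b = a * b * (z * z) := by rw [h.zz, mul_one]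
                _ = a * (b * z) * z := by group
                _ = a * (z * b) * z := by rw [h.zc b]
                _ = (a * z) * (b * z) := by group
            rw [e]; exact A.mul_mem ha hb
        · calc a * b * (a * b) = a * b * (b * a) := by rw [hc]
            _ = a * (b * b) * a := by group
            _ = 1 := by rw [hb', mul_one, ha']
      inv_mem' := by
        rintro a ⟨ha, ha'⟩
        have e : a⁻¹ = a := inv_eq_of_mul_eq_one_right ha'
        change (a⁻¹ ∈ A ∨ a⁻¹ * z ∈ A) ∧ a⁻¹ * a⁻¹ = 1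
        rw [e]
        exact ⟨ha, ha'⟩ }
  have hBn : B.Normal := by
    refine ⟨fun a ha g => ?_⟩
    obtain ⟨ha, ha'⟩ := ha
    refine ⟨?_, ?_⟩
    · rcases ha with ha | ha
      · exact Or.inl (hAn.conj_mem a ha g)
      · right
        have e : g * a * g⁻¹ * z = g * (a * z) * g⁻¹ := by
          calc g * a * g⁻¹ * z = g * a * (g⁻¹ * z) := by group
            _ = g * a * (z * g⁻¹) := by rw [h.zc]
            _ = g * (a * z) * g⁻¹ := by group
        rw [e]
        exact hAn.conj_mem _ ha g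
    · calc g * a * g⁻¹ * (g * a * g⁻¹) = g * (a * a) * g⁻¹ := by group
        _ = 1 := by rw [ha']; group
  have hBz := h.no_elem hM₀ hev hBn (fun b hb => hb.2)
    (show z ∈ B from ⟨Or.inr (by rw [h.zz]; exact A.one_mem), h.zz⟩)
  -- the conjugates of `s`
  have hss : s * s = 1 ∨ s * s = z := by
    rcases hsr with e | e
    · rw [e]; exact h.sq r hr
    · have e1 : s * s = r * r := by
        rw [e]
        calc t * r * (t * r) = t * (r * t) * r := by group
          _ = (t * t) * (r * r) := by rw [h.Rt r hr]; group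
          _ = r * r := by rw [h.tt, one_mul]
      rw [e1]; exact h.sq r hr
  have hconj : ∀ g : X, g * s * g⁻¹ = s ∨ g * s * g⁻¹ = s * z := by
    intro g
    have hg : g * s * g⁻¹ ∈ A := hAn.conj_mem s hsA g
    have h1 : (g * s * g⁻¹) * (g * s * g⁻¹) = s * s := by
      have e : (g * s * g⁻¹) * (g * s * g⁻¹) = g * (s * s) * g⁻¹ := by group
      rw [e]
      rcases hss with e | e
      · rw [e]; group
      · rw [e, h.zc g, mul_inv_cancel_right]
    have hc : (g * s * g⁻¹) * s = s * (g * s * g⁻¹) := hAc _ hg _ hsA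
    have h2 : s⁻¹ * (g * s * g⁻¹) ∈ B := by
      refine ⟨Or.inl (A.mul_mem (A.inv_mem hsA) hg), ?_⟩
      have c1 : Commute (g * s * g⁻¹) s := hc
      calc s⁻¹ * (g * s * g⁻¹) * (s⁻¹ * (g * s * g⁻¹))
          = s⁻¹ * ((g * s * g⁻¹) * s⁻¹) * (g * s * g⁻¹) := by group
        _ = s⁻¹ * (s⁻¹ * (g * s * g⁻¹)) * (g * s * g⁻¹) := by rw [c1.inv_right.eq]
        _ = s⁻¹ * s⁻¹ * ((g * s * g⁻¹) * (g * s * g⁻¹)) := by group
        _ = 1 := by rw [h1]; group
    rcases hBz _ h2 with e | e
    · left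
      exact (inv_mul_eq_one.1 e).symm
    · right
      rw [inv_mul_eq_iff_eq_mul] at e
      exact e
  have h3 : r = 1 ∨ r = z := by
    apply h.cz hr
    intro p hp
    rcases hsr with e | e
    · rw [← e]; exact hconj p
    · have e1 : p * s * p⁻¹ = t * (p * r * p⁻¹) := by
        rw [e]
        calc p * (t * r) * p⁻¹ = (p * t) * r * p⁻¹ := by group
          _ = t * (p * r * p⁻¹) := by rw [h.Pt p hp]; group
      rcases hconj p with e2 | e2
      · left
        rw [e1, e] at e2
        exact mul_left_cancel e2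
      · right
        rw [e1, e, mul_assoc t r z] at e2
        exact mul_left_cancel e2
  exact h3.elim hr1 hrz

/-- `⟨t⟩ × R` -/
def RT (h : Hyp z t R P) : Subgroup X where
  carrier := {x | x ∈ R ∨ t * x ∈ R}
  one_mem' := Or.inl R.one_mem
  mul_mem' := by
    rintro a b (ha | ha) (hb | hb)
    · exact Or.inl (R.mul_mem ha hb)
    · right
      have e : t * (a * b) = a * (t * b) := by rw [← mul_assoc, ← h.Rt a ha, mul_assoc]
      rw [e]; exact R.mul_mem ha hb
    · right
      rw [← mul_assoc]; exact R.mul_mem ha hb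
    · left
      have e : a * b = (t * a) * (t * b) := by
        have e1 : (t * a) * t = t * (t * a) := h.Rt _ ha
        calc a * b = (t * t) * a * b := by rw [h.tt, one_mul]
          _ = (t * (t * a)) * b := by group
          _ = (t * a) * (t * b) := by rw [← e1]; group
      rw [e]; exact R.mul_mem ha hb
  inv_mem' := by
    rintro a (ha | ha)
    · exact Or.inl (R.inv_mem ha)
    · right
      have e : t * a⁻¹ = (t * a)⁻¹ := by
        have e1 : (t * a) * t = t * (t * a) := h.Rt _ ha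
        have e2 : a * t = t * a := by
          calc a * t = (t * t) * a * t := by rw [h.tt, one_mul]
            _ = t * ((t * a) * t) := by group
            _ = t * (t * (t * a)) := by rw [e1]
            _ = (t * t) * (t * a) := by group
            _ = t * a := by rw [h.tt, one_mul]
        rw [← e2, mul_inv_rev, h.tinv]
      change t * a⁻¹ ∈ R
      rw [e]; exact R.inv_mem ha

theorem mem_RT (h : Hyp z t R P) {x : X} : x ∈ h.RT ↔ x ∈ R ∨ t * x ∈ R := Iff.rfl

/-- an abelian subgroup of `⟨t⟩R` has order at most `|R|` -/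
theorem card_abelian [Finite X] (h : Hyp z t R P) {A : Subgroup X} (hA : A ≤ h.RT)
    (hab : ∀ a ∈ A, ∀ b ∈ A, a * b = b * a) : Nat.card A ≤ Nat.card R := by
  classical
  set A' : Subgroup X := A ⊓ R with hA'
  have h1 : 2 * Nat.card A' ≤ Nat.card R := by
    obtain ⟨k, hk⟩ := Subgroup.card_dvd_of_le (inf_le_right : A' ≤ R)
    have hk0 : k ≠ 0 := by
      rintro rfl
      rw [mul_zero] at hk
      exact Nat.card_pos.ne' hk
    have hk1 : k ≠ 1 := by
      rintro rfl
      rw [mul_one] at hk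
      have h2 := Subgroup.eq_of_le_of_card_ge (inf_le_right : A' ≤ R) hk.le
      apply h.Rna
      intro a ha b hb
      rw [← h2] at ha hb
      exact hab a ha.1 b hb.1
    rw [hk, mul_comm]
    exact Nat.mul_le_mul le_rfl (by omega)
  refine le_trans ?_ h1
  by_cases hAR : A ≤ R
  · have : A' = A := inf_of_le_left hAR
    rw [this]; omega
  · obtain ⟨x, hxA, hxR⟩ := Set.not_subset.1 hAR
    have htx : t * x ∈ R := (hA hxA).resolve_left hxR
    let f : A' × Bool → A := fun y => if y.2 then ⟨y.1, y.1.2.1⟩ else ⟨y.1 * x, A.mul_mem y.1.2.1 hxA⟩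
    have hf : Function.Surjective f := by
      rintro ⟨a, ha⟩
      by_cases haR : a ∈ R
      · exact ⟨(⟨a, ha, haR⟩, true), rfl⟩
      · have hta : t * a ∈ R := (hA ha).resolve_left haR
        refine ⟨(⟨a * x⁻¹, A.mul_mem ha (A.inv_mem hxA), ?_⟩, false), ?_⟩
        · have e : a * x⁻¹ = (t * a) * (t * x)⁻¹ := by
            have e1 : (t * a) * t = t * (t * a) := h.Rt _ hta
            have e3 : (t * x) * t = t * (t * x) := h.Rt _ htx
            have e2 : (t * x)⁻¹ * t = t * (t * x)⁻¹ := by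
              have : Commute (t * x) t := e3
              exact this.inv_left.eq
            calc a * x⁻¹ = (t * t) * a * x⁻¹ := by rw [h.tt, one_mul]
              _ = (t * (t * a)) * ((t * x)⁻¹ * t) := by group
              _ = ((t * a) * t) * (t * (t * x)⁻¹) := by rw [e1, e2]
              _ = (t * a) * (t * t) * (t * x)⁻¹ := by group
              _ = (t * a) * (t * x)⁻¹ := by rw [h.tt, mul_one]
          change a * x⁻¹ ∈ R
          rw [e]
          exact R.mul_mem hta (R.inv_mem htx)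
        · exact Subtype.ext (inv_mul_cancel_right a x)
    have h2 := Nat.card_le_card_of_surjective f hf
    rw [Nat.card_prod, Nat.card_eq_fintype_card (α := Bool), Fintype.card_bool] at h2
    omega

/-- `P` normalises the component `M` -/
theorem cj_M [Finite X] (h : Hyp z t R P) {M : Subgroup X} (hM : IsComponent M) (hev : 2 ∣ Nat.card M) {s r : X}
    (hs : s ∈ M) (hr : r ∈ R) (hr1 : r ≠ 1) (hrz : r ≠ z) (hsr : s = r ∨ s = t * r) :
    ∀ p ∈ P, cj p M = M := by
  classical
  obtain ⟨w, hw, hidx⟩ := h.idx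
  -- the stabiliser
  set L : Subgroup X := normalizer (M : Set X) ⊓ P with hL
  have hmemN : ∀ p : X, p ∈ normalizer (M : Set X) ↔ cj p M = M := by
    intro p
    rw [mem_normalizer_iff]
    constructor
    · intro h
      ext x
      rw [mem_cj, h]
      have e : p * (p⁻¹ * x * p) * p⁻¹ = x := by group
      rw [e]
    · intro h x
      constructor
      · intro hx
        have := conj_mem_cj (g := p) hx
        rwa [h] at this
      · intro hx
        rw [← h, mem_cj] at hx
        have e : p⁻¹ * (p * x * p⁻¹) * p = x := by group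
        rwa [e] at hx
  set N : Subgroup P := (normalizer (M : Set X)).subgroupOf P with hN
  have hNL : N = L.subgroupOf P := by rw [hN, hL, inf_subgroupOf_right]
  suffices hLP : L = P by
    intro p hp
    rw [← hLP] at hp
    exact (hmemN p).1 hp.1
  apply hidx L inf_le_right
  rw [relIndex, ← hNL]
  by_contra hlt
  push Not at hlt
  -- representatives
  let c : (P ⧸ N) → X := fun ω => (ω.out : X) * s * (ω.out : X)⁻¹
  let ρ : (P ⧸ N) → X := fun ω => (ω.out : X) * r * (ω.out : X)⁻¹
  have hcM : ∀ ω, c ω ∈ cj (ω.out : X) M := fun ω => conj_mem_cj hs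
  have hρR : ∀ ω, ρ ω ∈ R := fun ω => h.PRn _ ω.out.2 r hr
  have hρ1 : ∀ ω, ρ ω ≠ 1 := by
    intro ω e
    simp only [ρ] at e
    rw [mul_inv_eq_one] at e
    exact hr1 (mul_eq_left.1 e)
  have hρz : ∀ ω, ρ ω ≠ z := by
    intro ω e
    simp only [ρ] at e
    rw [mul_inv_eq_iff_eq_mul, ← h.zc] at e
    exact hrz (mul_left_cancel e)
  have hcρ : ∀ ω, c ω = ρ ω ∨ c ω = t * ρ ω := by
    intro ω
    rcases hsr with e | e
    · left; simp only [c, ρ]; rw [e]
    · right
      simp only [c, ρ]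
      rw [e]
      calc (ω.out : X) * (t * r) * (ω.out : X)⁻¹ = ((ω.out : X) * t) * r * (ω.out : X)⁻¹ := by group
        _ = t * ((ω.out : X) * r * (ω.out : X)⁻¹) := by rw [h.Pt _ ω.out.2]; group
  have hcomp : ∀ ω : P ⧸ N, IsComponent (cj (ω.out : X) M) := fun ω =>
    Cfsg.Agent.Cit.Comp.isComponent_cj hM _
  have hne : ∀ ω ω' : P ⧸ N, ω ≠ ω' → cj (ω.out : X) M ≠ cj (ω'.out : X) M := by
    intro ω ω' hω heq
    apply hω
    have h1 : (ω.out⁻¹ * ω'.out : P) ∈ N := by
      apply mem_subgroupOf.2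
      apply (hmemN _).2
      change cj ((ω.out : X)⁻¹ * (ω'.out : X)) M = M
      rw [Cfsg.Agent.Cit.cj_mul, ← heq, ← Cfsg.Agent.Cit.cj_mul, inv_mul_cancel, Cfsg.Agent.Cit.cj_one]
    have h2 : ((ω.out : P) : P ⧸ N) = ((ω'.out : P) : P ⧸ N) := QuotientGroup.eq.2 h1
    rwa [QuotientGroup.out_eq', QuotientGroup.out_eq'] at h2
  have hcc : ∀ ω ω' : P ⧸ N, c ω * c ω' = c ω' * c ω := by
    intro ω ω'
    by_cases hω : ω = ω'
    · rw [hω]
    · exact Cfsg.Agent.Cit.Comp.comm_of_ne (hcomp ω) (hcomp ω') (hne ω ω' hω) (hcM ω) (hcM ω')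
  have hcount := count h.z1 c (fun F i hi hmem => by
    refine h.not_cen hM hev (hcomp i) (hcM i) (hρR i) (hρ1 i) (hρz i) (hcρ i) (fun m hm => ?_)
    have hle : closure ({z} ∪ c '' (F : Set (P ⧸ N))) ≤ centralizer ({m} : Set X) := by
      rw [closure_le]
      rintro x (hx | ⟨j, hj, rfl⟩)
      · rw [Set.mem_singleton_iff] at hx
        rw [hx]
        exact mem_centralizer_singleton_iff.2 (h.zc m).symm
      · have hji : j ≠ i := by
          rintro rfl
          exact hi hj
        exact mem_centralizer_singleton_iff.2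
          (Cfsg.Agent.Cit.Comp.comm_of_ne (hcomp j) (hcomp i) (hne j i hji) (hcM j) hm)
    exact (mem_centralizer_singleton_iff.1 (hle hmem)).symm)
  have hfin : Fintype (P ⧸ N) := Fintype.ofFinite _
  have h1 := hcount Finset.univ
  have hcard := h.card_abelian (A := closure ({z} ∪ c '' ((Finset.univ : Finset (P ⧸ N)) : Set (P ⧸ N)))) (by
    rw [closure_le]
    rintro x (hx | ⟨j, -, rfl⟩)
    · rw [Set.mem_singleton_iff] at hx
      rw [hx]
      exact Or.inl h.zRR
    · rcases hcρ j with e | e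
      · left; rw [e]; exact hρR j
      · right
        rw [e, ← mul_assoc, h.tt, one_mul]; exact hρR j) (by
    intro a ha b hb
    have hcomm : ∀ x ∈ ({z} ∪ c '' ((Finset.univ : Finset (P ⧸ N)) : Set (P ⧸ N)) : Set X),
        ∀ y ∈ ({z} ∪ c '' ((Finset.univ : Finset (P ⧸ N)) : Set (P ⧸ N)) : Set X), x * y = y * x := by
      rintro x (hx | ⟨i, -, rfl⟩) y (hy | ⟨j, -, rfl⟩)
      · rw [Set.mem_singleton_iff] at hx hy
        rw [hx, hy]
      · rw [Set.mem_singleton_iff] at hx
        rw [hx, h.zc]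
      · rw [Set.mem_singleton_iff] at hy
        rw [hy, h.zc]
      · exact hcc i j
    have h2 : closure ({z} ∪ c '' ((Finset.univ : Finset (P ⧸ N)) : Set (P ⧸ N)) : Set X) ≤
        centralizer (closure ({z} ∪ c '' ((Finset.univ : Finset (P ⧸ N)) : Set (P ⧸ N)) : Set X) : Set X) := by
      rw [closure_le, centralizer_closure]
      intro x hx
      rw [SetLike.mem_coe, mem_centralizer_iff]
      intro y hy
      exact hcomm y hy x hx
    exact (mem_centralizer_iff.1 (h2 hb) a ha))
  have h3 : (Finset.univ : Finset (P ⧸ N)).card = N.index := by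
    rw [Finset.card_univ, ← Nat.card_eq_fintype_card]; rfl
  rw [h3] at h1
  have h4 : 2 ^ (w + 1) < 2 ^ (N.index + 1) := Nat.pow_lt_pow_right (by norm_num) (by omega)
  omega

/-- the centre of `C(t)` -/
def Zt (t : X) : Subgroup X := centralizer ({t} : Set X) ⊓ centralizer (centralizer ({t} : Set X) : Set X)

theorem mem_Zt {c : X} : c ∈ Zt t ↔ c * t = t * c ∧ ∀ x, x * t = t * x → x * c = c * x := by
  rw [Zt, mem_inf, mem_centralizer_singleton_iff, mem_centralizer_iff]
  refine and_congr Iff.rfl ⟨fun h x hx => h x (mem_centralizer_singleton_iff.2 hx), fun h x hx => ?_⟩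
  exact h x (mem_centralizer_singleton_iff.1 hx)

theorem t_mem_Zt : t ∈ Zt t := mem_Zt.2 ⟨rfl, fun _ hx => hx⟩

theorem z_mem_Zt (h : Hyp z t R P) : z ∈ Zt t := mem_Zt.2 ⟨(h.zc t).symm, fun x _ => h.zc x⟩

/-- `M` contains an invariant subgroup of `R` not contained in `⟨z⟩` -/
theorem V_le [Finite X] (h : Hyp z t R P) {M : Subgroup X} {s r : X} (hs : s ∈ M)
    (hst : s * t = t * s) (hr : r ∈ R) (hr1 : r ≠ 1) (hrz : r ≠ z) (hsr : s = r ∨ s = t * r)
    (hPM : ∀ p ∈ P, cj p M = M) : ∃ V : Subgroup X, V ≤ M ∧ V ≤ R ∧ (V = R ∨ EF z t R P V) := by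
  set S : Subgroup X := M ⊓ centralizer ({t} : Set X) with hS
  have hcomm : ∀ x ∈ S, ∀ c ∈ Zt t, x * c = c * x := fun x hx c hc =>
    (mem_Zt.1 hc).2 x (mem_centralizer_singleton_iff.1 hx.2)
  set U : Subgroup X := R ⊓ (S ⊔ Zt t) with hU
  have hPZ : ∀ p ∈ P, ∀ c ∈ Zt t, p * c * p⁻¹ = c := by
    intro q hq c hc
    rw [(mem_Zt.1 hc).2 q (h.Pt q hq), mul_inv_cancel_right]
  have hPM' : ∀ p ∈ P, ∀ m ∈ M, p * m * p⁻¹ ∈ M := by
    intro p hp m hm
    have := conj_mem_cj (g := p) hm
    rwa [hPM p hp] at this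
  have hPS : ∀ p ∈ P, ∀ m ∈ S, p * m * p⁻¹ ∈ S := by
    intro p hp m hm
    refine ⟨hPM' p hp m hm.1, mem_centralizer_singleton_iff.2 ?_⟩
    have c1 : Commute p t := h.Pt p hp
    have c2 : Commute m t := mem_centralizer_singleton_iff.1 hm.2
    exact ((c1.mul_left c2).mul_left c1.inv_left).eq
  have hrU : r ∈ U := by
    refine ⟨hr, ?_⟩
    rcases hsr with h2 | h2
    · rw [← h2]
      exact mem_sup_left ⟨hs, mem_centralizer_singleton_iff.2 hst⟩
    · have h3 : r = t * s := by rw [h2, ← mul_assoc, h.tt, one_mul]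
      rw [h3]
      exact mul_mem (mem_sup_right t_mem_Zt)
        (mem_sup_left ⟨hs, mem_centralizer_singleton_iff.2 hst⟩)
  have hUn : ∀ p ∈ P, ∀ u ∈ U, p * u * p⁻¹ ∈ U := by
    intro p hp u hu
    refine ⟨h.PRn p hp u hu.1, ?_⟩
    obtain ⟨a, ha, c, hc, rfl⟩ := Cfsg.Agent.Cit.Comp.mem_sup_comm hcomm hu.2
    have e : p * (a * c) * p⁻¹ = (p * a * p⁻¹) * (p * c * p⁻¹) := by group
    rw [e, hPZ p hp c hc]
    exact mul_mem (mem_sup_left (hPS p hp a ha)) (mem_sup_right hc)
  -- `⁅P, U⁆ ≤ M`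
  have hPU : ⁅P, U⁆ ≤ M := by
    rw [commutator_le]
    intro p hp x hx
    obtain ⟨a, ha, c, hc, rfl⟩ := Cfsg.Agent.Cit.Comp.mem_sup_comm hcomm hx.2
    have hpc : p * c = c * p := (mem_Zt.1 hc).2 p (h.Pt p hp)
    have e : p * (a * c) * p⁻¹ * (a * c)⁻¹ = p * a * p⁻¹ * a⁻¹ := by
      rw [mul_inv_rev]
      have h2 : c * p⁻¹ = p⁻¹ * c := by
        rw [eq_inv_mul_iff_mul_eq, ← mul_assoc, hpc, mul_inv_cancel_right]
      calc p * (a * c) * p⁻¹ * (c⁻¹ * a⁻¹) = p * a * (c * p⁻¹) * c⁻¹ * a⁻¹ := by group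
        _ = p * a * p⁻¹ * a⁻¹ := by rw [h2]; group
    rw [commutatorElement_def, e]
    exact M.mul_mem (hPM' p hp a ha.1) (M.inv_mem ha.1)
  have hPUU : ⁅P, U⁆ ≤ U := by
    rw [commutator_le]
    intro p hp x hx
    rw [commutatorElement_def]
    exact U.mul_mem (hUn p hp x hx) (U.inv_mem hx)
  set U₂ : Subgroup X := ⁅P, U⁆ ⊔ zpowers z with hU₂
  have hzcm : ∀ x : X, ∀ c ∈ zpowers z, x * c = c * x := by
    intro x c hc
    obtain ⟨k, rfl⟩ := mem_zpowers_iff.1 hc
    exact (show Commute x z from h.zc x).zpow_right k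
  have hmem₂ : ∀ x ∈ U₂, ∃ a ∈ ⁅P, U⁆, ∃ c ∈ zpowers z, a * c = x := fun x hx =>
    Cfsg.Agent.Cit.Comp.mem_sup_comm (fun a _ c hc => hzcm a c hc) hx
  have hU₂R : U₂ ≤ R := sup_le (hPUU.trans inf_le_left) (zpowers_le.2 h.zRR)
  have hPUn : ∀ p ∈ P, ∀ u ∈ ⁅P, U⁆, p * u * p⁻¹ ∈ ⁅P, U⁆ := by
    intro p hp u hu
    have h1 : ⁅p, u⁆ ∈ ⁅P, U⁆ := commutator_mem_commutator hp (hPUU hu)
    have e : p * u * p⁻¹ = ⁅p, u⁆ * u := by rw [commutatorElement_def]; group
    rw [e]
    exact mul_mem h1 hu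
  have hU₂n : ∀ p ∈ P, ∀ u ∈ U₂, p * u * p⁻¹ ∈ U₂ := by
    intro p hp u hu
    obtain ⟨a, ha, c, hc, rfl⟩ := hmem₂ u hu
    have e : p * (a * c) * p⁻¹ = (p * a * p⁻¹) * (p * c * p⁻¹) := by group
    rw [e, hzcm p c hc, mul_inv_cancel_right]
    exact mul_mem (mem_sup_left (hPUn p hp a ha)) (mem_sup_right hc)
  rcases h.inv U₂ hU₂R hU₂n with h1 | h1
  · -- `P` centralises `U/⟨z⟩`
    exfalso
    have h2 : r = 1 ∨ r = z := by
      apply h.cz hr
      intro p hp
      have h3 : p * r * p⁻¹ * r⁻¹ ∈ U₂ := mem_sup_left (by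
        have := commutator_mem_commutator hp hrU
        rwa [commutatorElement_def] at this)
      rcases h1 _ h3 with e | e
      · left; exact mul_inv_eq_one.1 e
      · right
        rw [mul_inv_eq_iff_eq_mul] at e
        rw [e, h.zc]
    exact h2.elim hr1 hrz
  · refine ⟨U₂, ?_, hU₂R, h1⟩
    have hzM : z ∈ M := by
      have h2 : ⁅U₂, R⁆ ≤ M := by
        rw [commutator_le]
        intro x hx y hy
        obtain ⟨a, ha, c, hc, rfl⟩ := hmem₂ x hx
        have h3 : y * a⁻¹ * y⁻¹ ∈ M := hPM' y (h.RP hy) _ (M.inv_mem (hPU ha))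
        have e : a * c * y * (a * c)⁻¹ * y⁻¹ = a * (y * a⁻¹ * y⁻¹) := by
          rw [mul_inv_rev]
          calc a * c * y * (c⁻¹ * a⁻¹) * y⁻¹ = a * (c * y) * c⁻¹ * a⁻¹ * y⁻¹ := by group
            _ = a * (y * c) * c⁻¹ * a⁻¹ * y⁻¹ := by rw [hzcm y c hc]
            _ = a * (y * a⁻¹ * y⁻¹) := by group
        rw [commutatorElement_def, e]
        exact M.mul_mem (hPU ha) h3
      rcases h1 with h1 | h1
      · apply h2
        rw [h1]; exact h.zR
      · exact h2 h1.zE
    exact sup_le hPU (zpowers_le.2 hzM)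

/-- `P` is contained in `M` -/
theorem P_le [Finite X] (h : Hyp z t R P) {M : Subgroup X} (hM : IsComponent M) {V : Subgroup X} (hVM : V ≤ M)
    (hVR : V ≤ R) (hV : V = R ∨ EF z t R P V)
    (hP : P ≤ M ⊔ centralizer (M : Set X)) : P ≤ M := by
  set Y : Subgroup X := centralizer (M : Set X) with hY
  have hMY : ∀ x ∈ M, ∀ y ∈ Y, x * y = y * x := fun x hx y hy => mem_centralizer_iff.1 hy x hx
  have hcjM : cj t M = M := h.cj_t hM
  have hcjY : cj t Y = Y := by
    rw [hY]
    have h1 : cj t (centralizer (M : Set X)) = centralizer ((cj t M : Subgroup X) : Set X) := by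
      apply le_antisymm
      · rintro _ ⟨c, hc, rfl⟩
        rw [mem_centralizer_iff]
        rintro _ ⟨m, hm, rfl⟩
        have h2 := congrArg (MulAut.conj t) (mem_centralizer_iff.1 hc m hm)
        rw [map_mul, map_mul] at h2
        exact h2
      · intro c hc
        rw [mem_cj, mem_centralizer_iff]
        intro m hm
        have h2 := mem_centralizer_iff.1 hc (t * m * t⁻¹) (conj_mem_cj hm)
        calc m * (t⁻¹ * c * t) = t⁻¹ * (t * m * t⁻¹ * c) * t := by group
          _ = t⁻¹ * (c * (t * m * t⁻¹)) * t := by rw [h2]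
          _ = t⁻¹ * c * t * m := by group
    rw [h1, hcjM]
  -- elements of `C(t)` centralising `V` commute
  have hVV : ∀ x y : X, x * t = t * x → (∀ v ∈ V, x * v = v * x) → y * t = t * y → (∀ v ∈ V, y * v = v * y) →
      x * y = y * x := by
    intro x y hx hxV hy hyV
    rcases hV with rfl | hE
    · rcases h.cR x hx hxV with e | e | e | e
      · rw [e, mul_one, one_mul]
      · rw [e, h.zc]
      · rw [e, hy]
      · rw [e]
        have c1 : Commute y t := hy
        have c2 : Commute y z := h.zc y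
        exact (c1.mul_right c2).eq.symm
    · have key : ∀ y : X, (∀ v ∈ V, y * v = v * y) → ∀ v ∈ V, y * v = v * y := fun y h => h
      rcases hE.cE x hx hxV with e | e
      · exact (hyV x e).symm
      · have c1 : Commute y (t * x) := hyV _ e
        have c2 : Commute y t := hy
        have c3 : Commute y (t * (t * x)) := c2.mul_right c1
        rw [← mul_assoc, h.tt, one_mul] at c3
        exact c3.eq.symm
  set A : Subgroup X := Y ⊓ centralizer ({t} : Set X) with hA
  have hMA : ∀ x ∈ M, ∀ y ∈ A, x * y = y * x := fun x hx y hy => hMY x hx y hy.1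
  have hAA : ∀ x ∈ A, ∀ y ∈ A, x * y = y * x := fun x hx y hy =>
    hVV x y (mem_centralizer_singleton_iff.1 hx.2) (fun v hv => (hMY v (hVM hv) x hx.1).symm)
      (mem_centralizer_singleton_iff.1 hy.2) (fun v hv => (hMY v (hVM hv) y hy.1).symm)
  -- the first step
  have hPA : P ≤ M ⊔ A := by
    rw [← h.Pperf, commutator_le]
    intro p hp q hq
    obtain ⟨m, hm, c, hc, rfl⟩ := Cfsg.Agent.Cit.Comp.mem_sup_comm hMY (hP hp)
    obtain ⟨n, hn, d, hd, rfl⟩ := Cfsg.Agent.Cit.Comp.mem_sup_comm hMY (hP hq)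
    -- `t` acts on `c` through `M ∩ Y`
    have key : ∀ m ∈ M, ∀ c ∈ Y, m * c ∈ P → ∃ e ∈ M ⊓ Y, t * c * t⁻¹ = e * c := by
      intro m hm c hc hmc
      have h1 : t * (m * c) * t⁻¹ = m * c := by
        rw [← h.Pt _ hmc, mul_inv_cancel_right]
      have hm' : t * m * t⁻¹ ∈ M := by
        have := conj_mem_cj (g := t) hm
        rwa [hcjM] at this
      have hc' : t * c * t⁻¹ ∈ Y := by
        have := conj_mem_cj (g := t) hc
        rwa [hcjY] at this
      have h2 : (t * m * t⁻¹)⁻¹ * m = t * c * t⁻¹ * c⁻¹ := by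
        have h3 : (t * m * t⁻¹) * (t * c * t⁻¹) = m * c := by rw [← h1]; group
        calc (t * m * t⁻¹)⁻¹ * m = (t * m * t⁻¹)⁻¹ * (m * c) * c⁻¹ := by group
          _ = (t * m * t⁻¹)⁻¹ * ((t * m * t⁻¹) * (t * c * t⁻¹)) * c⁻¹ := by rw [h3]
          _ = t * c * t⁻¹ * c⁻¹ := by group
      refine ⟨t * c * t⁻¹ * c⁻¹, ⟨?_, Y.mul_mem hc' (Y.inv_mem hc)⟩, by group⟩
      rw [← h2]
      exact M.mul_mem (M.inv_mem hm') hm
    obtain ⟨e, he, hec⟩ := key m hm c hc hp
    obtain ⟨f, hf, hfd⟩ := key n hn d hd hq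
    -- the commutator
    set w : X := c * d * c⁻¹ * d⁻¹ with hw
    have hwY : w ∈ Y := Y.mul_mem (Y.mul_mem (Y.mul_mem hc hd) (Y.inv_mem hc)) (Y.inv_mem hd)
    have hwt : w * t = t * w := by
      have h1 : t * w * t⁻¹ = w := by
        have h2 : t * w * t⁻¹ = (t * c * t⁻¹) * (t * d * t⁻¹) * (t * c * t⁻¹)⁻¹ * (t * d * t⁻¹)⁻¹ := by
          rw [hw]; group
        have ec : Commute e c := hMY e he.1 c hc
        have ed : Commute e d := hMY e he.1 d hd
        have fc : Commute f c := hMY f hf.1 c hc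
        have fd : Commute f d := hMY f hf.1 d hd
        have ef : Commute e f := hMY e he.1 f hf.2
        rw [h2, hec, hfd, mul_inv_rev, mul_inv_rev, hw]
        calc e * c * (f * d) * (c⁻¹ * e⁻¹) * (d⁻¹ * f⁻¹)
            = e * (c * f) * d * c⁻¹ * (e⁻¹ * d⁻¹) * f⁻¹ := by group
          _ = e * (f * c) * d * c⁻¹ * (d⁻¹ * e⁻¹) * f⁻¹ := by rw [fc.eq, (ed.inv_inv).eq]
          _ = (e * f) * (c * d * c⁻¹ * d⁻¹) * e⁻¹ * f⁻¹ := by group
          _ = (f * e) * (e⁻¹ * (c * d * c⁻¹ * d⁻¹)) * f⁻¹ := by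
              have h3 : Commute e⁻¹ (c * d * c⁻¹ * d⁻¹) :=
                (((ec.mul_right ed).mul_right ec.inv_right).mul_right ed.inv_right).inv_left
              rw [ef.eq, h3.eq]; group
          _ = f * (c * d * c⁻¹ * d⁻¹) * f⁻¹ := by group
          _ = c * d * c⁻¹ * d⁻¹ := by
              have h3 : Commute f (c * d * c⁻¹ * d⁻¹) :=
                ((fc.mul_right fd).mul_right fc.inv_right).mul_right fd.inv_right
              rw [h3.eq, mul_inv_cancel_right]
      calc w * t = t * w * t⁻¹ * t := by rw [h1]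
        _ = t * w := by group
    have hwA : w ∈ A := ⟨hwY, mem_centralizer_singleton_iff.2 hwt⟩
    have h3 : (m * c) * (n * d) * (m * c)⁻¹ * (n * d)⁻¹ = (m * n * m⁻¹ * n⁻¹) * w := by
      have mc : Commute m c := hMY m hm c hc
      have md : Commute m d := hMY m hm d hd
      have nc : Commute n c := hMY n hn c hc
      have nd : Commute n d := hMY n hn d hd
      rw [mul_inv_rev, mul_inv_rev, hw]
      calc m * c * (n * d) * (c⁻¹ * m⁻¹) * (d⁻¹ * n⁻¹)
          = m * (c * n) * d * (c⁻¹ * m⁻¹) * (d⁻¹ * n⁻¹) := by group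
        _ = m * (n * c) * d * (m⁻¹ * c⁻¹) * (n⁻¹ * d⁻¹) := by
            rw [nc.eq, (mc.inv_inv).eq, (nd.inv_inv).eq]
        _ = m * n * (c * d * m⁻¹) * (c⁻¹ * n⁻¹) * d⁻¹ := by group
        _ = m * n * (m⁻¹ * (c * d)) * (n⁻¹ * c⁻¹) * d⁻¹ := by
            rw [((mc.mul_right md).inv_left).eq, (nc.inv_inv).eq]
        _ = m * n * m⁻¹ * ((c * d) * n⁻¹) * c⁻¹ * d⁻¹ := by group
        _ = m * n * m⁻¹ * (n⁻¹ * (c * d)) * c⁻¹ * d⁻¹ := by
            rw [((nc.mul_right nd).inv_left).eq]
        _ = m * n * m⁻¹ * n⁻¹ * (c * d * c⁻¹ * d⁻¹) := by group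
    rw [commutatorElement_def, h3]
    exact mul_mem (mem_sup_left (M.mul_mem (M.mul_mem (M.mul_mem hm hn) (M.inv_mem hm)) (M.inv_mem hn)))
      (mem_sup_right hwA)
  -- the second step
  rw [← h.Pperf, commutator_le]
  intro p hp q hq
  obtain ⟨m, hm, c, hc, rfl⟩ := Cfsg.Agent.Cit.Comp.mem_sup_comm hMA (hPA hp)
  obtain ⟨n, hn, d, hd, rfl⟩ := Cfsg.Agent.Cit.Comp.mem_sup_comm hMA (hPA hq)
  have mc : Commute m c := hMA m hm c hc
  have md : Commute m d := hMA m hm d hd
  have nc : Commute n c := hMA n hn c hc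
  have nd : Commute n d := hMA n hn d hd
  have cd : Commute c d := hAA c hc d hd
  have h3 : (m * c) * (n * d) * (m * c)⁻¹ * (n * d)⁻¹ = (m * n * m⁻¹ * n⁻¹) := by
    rw [mul_inv_rev, mul_inv_rev]
    calc m * c * (n * d) * (c⁻¹ * m⁻¹) * (d⁻¹ * n⁻¹)
        = m * (c * n) * d * (c⁻¹ * m⁻¹) * (d⁻¹ * n⁻¹) := by group
      _ = m * (n * c) * d * (m⁻¹ * c⁻¹) * (n⁻¹ * d⁻¹) := by
          rw [nc.eq, (mc.inv_inv).eq, (nd.inv_inv).eq]
      _ = m * n * (c * d * m⁻¹) * (c⁻¹ * n⁻¹) * d⁻¹ := by group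
      _ = m * n * (m⁻¹ * (c * d)) * (n⁻¹ * c⁻¹) * d⁻¹ := by
          rw [((mc.mul_right md).inv_left).eq, (nc.inv_inv).eq]
      _ = m * n * m⁻¹ * ((c * d) * n⁻¹) * c⁻¹ * d⁻¹ := by group
      _ = m * n * m⁻¹ * (n⁻¹ * (d * c)) * c⁻¹ * d⁻¹ := by
          have h5 : Commute n⁻¹ (c * d) := (nc.mul_right nd).inv_left
          rw [← h5.eq, cd.eq]
      _ = m * n * m⁻¹ * n⁻¹ := by group
  rw [commutatorElement_def, h3]
  exact M.mul_mem (M.mul_mem (M.mul_mem hm hn) (M.inv_mem hm)) (M.inv_mem hn)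

/-- **the theorem** -/
theorem main [Finite X] (h : Hyp z t R P) {M : Subgroup X} (hM : IsComponent M)
    (hSch : (∀ p ∈ P, cj p M = M) → P ≤ M ⊔ centralizer (M : Set X)) (hev : 2 ∣ Nat.card M) :
    (z ∈ M ∧ ∀ x ∈ M, x * x = 1 → x = 1 ∨ x = z) ∨
      (P ≤ M ∧ ((t ∈ M ∧ ∀ y ∈ centralizer (M : Set X), y = 1 ∨ y = z) ∨
        t ∉ M ⊔ centralizer (M : Set X))) := by
  set S : Subgroup X := M ⊓ centralizer ({t} : Set X) with hS
  have hSn : (S.subgroupOf (centralizer ({t} : Set X))).IsSubnormal := by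
    rw [hS, inf_subgroupOf_right]
    exact hM.1.subgroupOf
  rcases h.rad S inf_le_right hSn with h1 | ⟨s, hs, r, hr, hr1, hrz, hsr⟩
  · left
    refine Cfsg.Agent.OddHalf.CaseM.unique_involution h.zz h.z1 h.tt h.t1 h.tz h.zc hM hev (fun x hx => ?_)
      (fun x hx hxt => ?_)
    · have := conj_mem_cj (g := t) hx
      rwa [h.cj_t hM] at this
    · exact h1 x ⟨hx, mem_centralizer_singleton_iff.2 hxt⟩
  · right
    have hPM := h.cj_M hM hev hs.1 hr hr1 hrz hsr
    obtain ⟨V, hVM, hVR, hV⟩ := h.V_le hs.1 (mem_centralizer_singleton_iff.1 hs.2) hr hr1 hrz hsr hPM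
    have hP : P ≤ M := h.P_le hM hVM hVR hV (hSch hPM)
    have hRM : R ≤ M := h.RP.trans hP
    refine ⟨hP, ?_⟩
    set Y : Subgroup X := centralizer (M : Set X) with hY
    have hMY : ∀ x ∈ M, ∀ y ∈ Y, x * y = y * x := fun x hx y hy => mem_centralizer_iff.1 hy x hx
    -- `t` does not centralise `M`
    have htY : ¬ ∀ x ∈ M, x * t = t * x := fun h1 => h.not_quasisimple hM.2 hRM h1
    by_cases htM : t ∈ M ⊔ Y
    · left
      obtain ⟨m, hm, c, hc, hmc⟩ := Cfsg.Agent.Cit.Comp.mem_sup_comm hMY htM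
      have hm' : m = t * c⁻¹ := by rw [← hmc, mul_inv_cancel_right]
      have hmt : m * t = t * m := by
        have mc : Commute m c := hMY m hm c hc
        rw [← hmc, mul_assoc, mc.eq]
      have hmR : ∀ r ∈ R, m * r = r * m := by
        intro r hr
        have h2 : Commute r c := hMY r (hRM hr) c hc
        have h3 : Commute r t := h.Rt r hr
        have h4 : Commute r m := by rw [hm']; exact h3.mul_right h2.inv_right
        exact h4.symm.eq
      have htM' : t ∈ M := by
        rcases h.cR m hmt hmR with h2 | h2 | h2 | h2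
        · exfalso
          apply htY
          intro x hx
          have h3 : t = c := by rw [← hmc, h2, one_mul]
          rw [h3]; exact hMY x hx c hc
        · exfalso
          apply htY
          intro x hx
          have h3 : t = z * c := by rw [← hmc, h2]
          have h4 : Commute x z := h.zc x
          have h5 : Commute x c := hMY x hx c hc
          rw [h3]; exact (h4.mul_right h5).eq
        · rw [← h2]; exact hm
        · have h3 : t = m * z := by rw [h2, mul_assoc, h.zz, mul_one]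
          rw [h3]; exact M.mul_mem hm (hRM h.zRR)
      refine ⟨htM', fun y hy => ?_⟩
      have hyt : y * t = t * y := (hMY t htM' y hy).symm
      have hyR : ∀ r ∈ R, y * r = r * y := fun r hr => (hMY r (hRM hr) y hy).symm
      rcases h.cR y hyt hyR with h2 | h2 | h2 | h2
      · exact Or.inl h2
      · exact Or.inr h2
      · exfalso
        apply htY
        intro x hx
        rw [← h2]; exact hMY x hx y hy
      · exfalso
        apply htY
        intro x hx
        have h3 : t = y * z := by rw [h2, mul_assoc, h.zz, mul_one]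
        have h4 : Commute x y := hMY x hx y hy
        have h5 : Commute x z := h.zc x
        rw [h3]; exact (h4.mul_right h5).eq
    · exact Or.inr htM

end Hyp

end Cfsg.Agent.OddHalf.E2.NoComp
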