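import Mathlib

/-!
# Separation in elementary abelian 2-groups (helper963)

`exists_sep`: in a group of exponent 2, an element outside a subgroup `L` is separated from `L` by a
homomorphism to `{±1}`.
-/

set_option autoImplicit false
set_option linter.style.haveILetI false

namespace Cfsg.Agent.OddHalf.E2

open Subgroup

/-- separation by a homomorphism to `ℤˣ` -/
theorem exists_sep {B : Type*} [Group B] (hB : ∀ b : B, b * b = 1) (L : Subgroup B) {c : B} (hc : c ∉ L) :
    ∃ φ : B →* ℤˣ, (∀ l ∈ L, φ l = 1) ∧ φ c = -1 := by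
  have hinv : ∀ b : B, b⁻¹ = b := fun b => inv_eq_of_mul_eq_one_right (hB b)
  have hcomm : ∀ a b : B, a * b = b * a := by
    intro a b
    have h1 := hinv (a * b)
    rw [mul_inv_rev, hinv, hinv] at h1
    exact h1.symm
  letI : CommGroup B := { ‹Group B› with mul_comm := hcomm }
  letI : Module (ZMod 2) (Additive B) := AddCommGroup.zmodModule (n := 2) (by
    intro x
    rw [two_nsmul]
    exact congrArg Additive.ofMul (hB x.toMul))
  let p : Submodule (ZMod 2) (Additive B) := AddSubgroup.toZModSubmodule 2 (Subgroup.toAddSubgroup L)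
  have hp : Additive.ofMul c ∉ p := by
    intro h
    exact hc h
  obtain ⟨f, hf1, hf2⟩ := p.exists_dual_map_eq_bot_of_notMem hp inferInstance
  refine ⟨{ toFun := fun b => (-1 : ℤˣ) ^ (f (Additive.ofMul b)), map_one' := ?_, map_mul' := ?_ }, ?_, ?_⟩
  · rw [ofMul_one, map_zero]; exact uzpow_zero _
  · intro a b
    rw [ofMul_mul, map_add, uzpow_add]
  · intro l hl
    have h1 : f (Additive.ofMul l) = 0 := by
      have h2 : f (Additive.ofMul l) ∈ p.map f := ⟨Additive.ofMul l, hl, rfl⟩
      rw [hf2] at h2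
      exact (Submodule.mem_bot _).1 h2
    show (-1 : ℤˣ) ^ (f (Additive.ofMul l)) = 1
    rw [h1]; exact uzpow_zero _
  · have h1 : f (Additive.ofMul c) = 1 := by
      have : ∀ x : ZMod 2, x ≠ 0 → x = 1 := by decide
      exact this _ hf1
    show (-1 : ℤˣ) ^ (f (Additive.ofMul c)) = -1
    rw [h1]; exact uzpow_one _

end Cfsg.Agent.OddHalf.E2
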